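import Cfsg.Agent.SP.NegS.Gen
import Cfsg.Agent.H850.MonSub
import Cfsg.Agent.H546.MElevenB_m3
import Cfsg.Agent.LThreeB.Row
import Cfsg.Agent.SP.Mon.NL.Cent
import Cfsg.Agent.DS.M.ConMain
import Cfsg.Agent.S4106
import Cfsg.Agent.H816.M23.Main
import Cfsg.Agent.H8.Mon.Bound_m3
import Cfsg.Agent.H909.PwM.TwoA
import Cfsg.Agent.H909.PwM.Base
import Cfsg.Agent.H849.StabCo3
import Cfsg.Agent.H603.SporElim
import Cfsg.Agent.MonsterU.Final_m3
import Cfsg.Agent.S5534
import Cfsg.Agent.S1704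
import Cfsg.Agent.FastGrp
import Cfsg.Agent.Prune
set_option linter.all false

section
prune_inst 0x7ffefef9aeb8bddfffff7e7ffff9dffe3bd4dfffefdff94bffedfbffffff23672be1fbaf0de4d8fedef6e03410b87853f97eceffe26bdc7ffffd5ff45ffbee1ff7ffbd2d51d7b8341ffe6ffffbf37fae7f3fffffffffffffffffffffffffffffffffffffffff

-- part: SP/Mon/Iface
section
set_option linter.all false
open scoped Cfsg.Agent.FastGrp

/-! # S5755, the Monster row: boxes and assembly

All boxes are statements on the model `MG`.  A box may take `H940.Eng.Base` as a hypothesis. -/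

set_option autoImplicit false
set_option linter.style.haveILetI false

namespace Cfsg.Agent.SP.Mon

open Subgroup
open Cfsg.Agent.BpSpor.MBigModel (MG)
open Cfsg.Agent.LThreeB.Row (TA)

section General
variable {T : Type*} [Group T]

/-- No pair `(A, B)` of `T` has `A ≤ H`. -/
def NoPairIn (H : Subgroup T) : Prop := ∀ A B : Subgroup T, A ≤ H → ¬ IsPair A B

theorem NoPairIn.mono {H K : Subgroup T} (h : NoPairIn H) (hK : K ≤ H) : NoPairIn K :=
  fun A B hA => h A B (hA.trans hK)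

theorem NoPairIn.conj {H : Subgroup T} (h : NoPairIn H) (g : T) :
    NoPairIn (H.map (MulAut.conj g).toMonoidHom) := by
  intro A B hA hp
  refine h _ _ ?_ (hp.map (MulAut.conj g⁻¹))
  rintro _ ⟨x, hx, rfl⟩
  have := mem_map_conj.1 (hA hx)
  simpa using this

/-- If `g⁻¹ K g ≤ H` and `H` holds no pair, then `K` holds no pair. -/
theorem NoPairIn.of_conj {H K : Subgroup T} (h : NoPairIn H) (g : T)
    (hK : ∀ x ∈ K, g⁻¹ * x * g ∈ H) : NoPairIn K :=
  (h.conj g).mono fun x hx => mem_map_conj.2 (hK x hx)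

/-- `V` is an elementary abelian `p`-group, `V ≠ 1`, normalised by `A`, and `A` normalises no
subgroup strictly between `1` and `V`. -/
structure MinInv (p : ℕ) (A V : Subgroup T) : Prop where
  ne_bot : V ≠ ⊥
  pow : ∀ v ∈ V, v ^ p = 1
  comm : ∀ v ∈ V, ∀ w ∈ V, v * w = w * v
  norm : ∀ a ∈ A, ∀ v ∈ V, a * v * a⁻¹ ∈ V
  min : ∀ W : Subgroup T, W ≤ V → (∀ a ∈ A, ∀ w ∈ W, a * w * a⁻¹ ∈ W) → W = ⊥ ∨ W = V

theorem MinInv.le_normalizer [Finite T] {p : ℕ} {A V : Subgroup T} (h : MinInv p A V) :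
    A ≤ normalizer (V : Set T) := fun a ha =>
  mem_normalizer_fintype (fun v hv => h.norm a ha v hv)

theorem MinInv.isPGroup {p : ℕ} {A V : Subgroup T} (h : MinInv p A V) : IsPGroup p V :=
  fun v => ⟨1, Subtype.ext (by simpa using h.pow v v.2)⟩

theorem MinInv.orderOf_eq {p : ℕ} (hp : p.Prime) {A V : Subgroup T} (h : MinInv p A V) {v : T}
    (hv : v ∈ V) (h1 : v ≠ 1) : orderOf v = p :=
  haveI := Fact.mk hp
  orderOf_eq_prime (h.pow v hv) h1

/-- A group normalising a non-trivial `p`-subgroup has a minimal invariant elementary abelian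
`p`-subgroup inside it. -/
theorem exists_minInv [Finite T] {p : ℕ} (hp : p.Prime) {A V : Subgroup T} (hV : V ≠ ⊥)
    (hpV : IsPGroup p V) (hA : ∀ a ∈ A, ∀ v ∈ V, a * v * a⁻¹ ∈ V) :
    ∃ W ≤ V, MinInv p A W := by
  haveI := Fact.mk hp
  obtain ⟨W, ⟨hW0, hWV, hWA⟩, hmin⟩ := exists_minimal_of_wellFoundedLT
    (fun W : Subgroup T => W ≠ ⊥ ∧ W ≤ V ∧ ∀ a ∈ A, ∀ w ∈ W, a * w * a⁻¹ ∈ W) ⟨V, hV, le_rfl, hA⟩
  have hmin' : ∀ U : Subgroup T, U ≤ W → (∀ a ∈ A, ∀ w ∈ U, a * w * a⁻¹ ∈ U) → U = ⊥ ∨ U = W := by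
    intro U hU hUA
    by_cases h0 : U = ⊥
    · exact Or.inl h0
    · exact Or.inr (le_antisymm hU (hmin ⟨h0, hU.trans hWV, hUA⟩ hU))
  have hpW : IsPGroup p W := hpV.to_le hWV
  haveI : Nontrivial W := (nontrivial_iff_ne_bot W).2 hW0
  -- the elements of order dividing `p` of the centre of `W`
  let U : Subgroup T :=
    { carrier := {x | x ∈ W ∧ (∀ w ∈ W, x * w = w * x) ∧ x ^ p = 1}
      one_mem' := ⟨W.one_mem, by simp, by simp⟩
      mul_mem' := by
        rintro x y ⟨hx, hxc, hxp⟩ ⟨hy, hyc, hyp⟩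
        refine ⟨W.mul_mem hx hy, fun w hw => ?_, ?_⟩
        · rw [mul_assoc, hyc w hw, ← mul_assoc, hxc w hw, mul_assoc]
        · rw [(show Commute x y from hxc y hy).mul_pow, hxp, hyp, one_mul]
      inv_mem' := by
        rintro x ⟨hx, hxc, hxp⟩
        refine ⟨W.inv_mem hx, fun w hw => ?_, by rw [inv_pow, hxp, inv_one]⟩
        exact (show Commute x w from hxc w hw).inv_left.eq }
  have hU : U = W := by
    refine (hmin' U (fun x hx => hx.1) ?_).resolve_left ?_
    · rintro a ha x ⟨hx, hxc, hxp⟩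
      refine ⟨hWA a ha x hx, fun w hw => ?_, by rw [conj_pow, hxp]; simp⟩
      have := hxc _ (hWA a⁻¹ (A.inv_mem ha) w hw)
      calc a * x * a⁻¹ * w = a * (x * (a⁻¹ * w * a⁻¹⁻¹)) * a⁻¹ := by group
        _ = w * (a * x * a⁻¹) := by rw [this]; group
    · haveI := IsPGroup.center_nontrivial hpW
      obtain ⟨z, hz1⟩ := exists_ne (1 : center W)
      have hz : IsPGroup p (center W) := hpW.to_subgroup _
      obtain ⟨k, hk⟩ := IsPGroup.iff_orderOf.1 hz z
      have hdv : p ∣ orderOf z := by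
        rcases k with _ | k
        · exact absurd (orderOf_eq_one_iff.1 (by simpa using hk)) hz1
        · rw [hk]; exact dvd_pow_self p k.succ_ne_zero
      let y : center W := z ^ (orderOf z / p)
      have hy : orderOf y = p := orderOf_pow_orderOf_div (orderOf_pos z).ne' hdv
      intro h0
      have hyU : ((y : W) : T) ∈ U := by
        refine ⟨(y : W).2, fun w hw => ?_, ?_⟩
        · exact congrArg Subtype.val (mem_center_iff.1 y.2 ⟨w, hw⟩).symm
        · have := pow_orderOf_eq_one y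
          rw [hy] at this
          exact congrArg (fun u : center W => ((u : W) : T)) this
      rw [h0, mem_bot] at hyU
      have : y = 1 := Subtype.ext (Subtype.ext hyU)
      rw [this, orderOf_one] at hy
      exact hp.one_lt.ne hy
  have hmem : ∀ x ∈ W, x ∈ U := fun x hx => hU.symm ▸ hx
  exact ⟨W, hWV, hW0, fun v hv => (hmem v hv).2.2, fun v hv => (hmem v hv).2.1, hWA, hmin'⟩

end General

/-- Box `U`: pairs are large. -/
def BoxU : Prop := ∀ A B : Subgroup MG, IsPair A B → 5 * 10 ^ 13 < Nat.card A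

/-- Box `NL`: the first member of a pair lies in a local subgroup. -/
def BoxNL : Prop := ∀ A B : Subgroup MG, IsPair A B →
  ∃ (p : ℕ) (V : Subgroup MG), p.Prime ∧ V ≠ ⊥ ∧ IsPGroup p V ∧
    ∀ a ∈ A, ∀ v ∈ V, a * v * a⁻¹ ∈ V

/-- Box `L p`: no pair with a minimal invariant elementary abelian `p`-subgroup. -/
def BoxL (p : ℕ) : Prop := ∀ A B V : Subgroup MG, IsPair A B → MinInv p A V → False

/-- Box `C2A`: no pair in the centraliser of a `2A` involution. -/
def BoxC2A : Prop := ∀ a : MG, TA a → NoPairIn (centralizer ({a} : Set MG))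

/-- Box `N2A2`: no pair in the normaliser of a `2A`-pure four-group. -/
def BoxN2A2 : Prop := ∀ a b : MG, TA a → TA b → TA (a * b) → a * b = b * a →
  NoPairIn (normalizer (closure ({a, b} : Set MG) : Set MG))

/-- the class `3A` -/
def T3A (x : MG) : Prop :=
  orderOf x = 3 ∧ Nat.card (centralizer ({x} : Set MG)) = 3 * 1255205709190661721292800

/-- the class `3C` -/
def T3C (x : MG) : Prop :=
  orderOf x = 3 ∧ Nat.card (centralizer ({x} : Set MG)) = 3 * 90745943887872000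

/-- Box `N3C`: no pair in the normaliser of a group of order three of class `3C`. -/
def BoxN3C : Prop := ∀ x : MG, T3C x → NoPairIn (normalizer (zpowers x : Set MG))

/-- Assembly on the model. -/
theorem not_pair_MG (hNL : BoxNL) (h2 : BoxL 2) (h3 : BoxL 3)
    (h5 : ∀ p : ℕ, p.Prime → 5 ≤ p → BoxL p) : ¬ Pair MG := by
  haveI : Finite MG := BpSpor.MBigModel.finite
  rintro ⟨A, B, h⟩
  obtain ⟨p, V, hp, hV, hpV, hA⟩ := hNL A B h
  obtain ⟨W, -, hW⟩ := exists_minInv hp hV hpV hA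
  rcases (by have := hp.two_le; omega : p = 2 ∨ p = 3 ∨ p = 4 ∨ 5 ≤ p) with rfl | rfl | rfl | h'
  · exact h2 A B W h hW
  · exact h3 A B W h hW
  · exact absurd hp (by norm_num)
  · exact h5 p hp h' A B W h hW

/-- Assembly on the Monster. -/
theorem not_pair_monster (hNL : BoxNL) (h2 : BoxL 2) (h3 : BoxL 3)
    (h5 : ∀ p : ℕ, p.Prime → 5 ≤ p → BoxL p) : ¬ Pair Spor.Monster := fun h =>
  let ⟨e⟩ := MonsterP.Equiv.equiv
  not_pair_MG hNL h2 h3 h5 (h.of_equiv e)

end Cfsg.Agent.SP.Mon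
end

-- part: SP/Mon/L3/Iface
section
prune_inst 0x10106514442200000018000062001c42b2000002004b00012040000004888c41e0040e20b060021091200864203a006813000119421000002a000a00411c0080002020c28008a00001000000c800180c00000000000000000000000000000000000000000
set_option linter.all false
open scoped Cfsg.Agent.FastGrp

/-! # S5755, the Monster, the prime 3: classes and boxes

Every box may take `H940.Eng.Base` as a hypothesis.  Proofs on paper: `notes/SP/Monster.md`. -/

set_option autoImplicit false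
set_option maxRecDepth 100000
set_option linter.style.haveILetI false

namespace Cfsg.Agent.SP.Mon

open Subgroup Cfsg
open Cfsg.Agent.MonsterX Cfsg.Agent.MonsterP Cfsg.Agent.LThreeMB
open Cfsg.Agent.BpSpor.MBigModel (MG zz pi chart cls)
open Cfsg.Agent.LThreeB.Row (TA)
open Cfsg.Agent.DS.M.Con (TB)

/-- the class `3B` -/
def T3B (x : MG) : Prop :=
  ∃ x' : centralizer ({zz} : Set MG), orderOf x' = 3 ∧ fr (pi x') = 1 ∧ ∃ c : MG, c * x' * c⁻¹ = x

/-- `|C(3B)|` -/
abbrev dD : ℕ := 3 ^ 13 * (448345497600 * 2)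

/-- the centralizer of a `3A`-pure group of order nine -/
abbrev c0 : ℕ := 9 * 4952179814400

/-- Box `Ev3`: every element of order three commutes with an involution. -/
def BoxEv3 : Prop := ∀ x : MG, orderOf x = 3 → 2 ∣ Nat.card (centralizer ({x} : Set MG))

/-- Box `CQ`: elements of order three of `C(3B)` outside `3 ^ (1 + 12)`. -/
def BoxCQ : Prop := ∀ x : MG, T3B x → ∃ N : Subgroup MG, TB x N ∧ ∀ y : MG, orderOf y = 3 → y * x = x * y → y ∉ N →
  Nat.card (centralizer ({x} : Set MG) ⊓ centralizer ({y} : Set MG) : Subgroup MG) ≤ 3 ^ 7 * (2 * 9797760)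

/-- Box `N2`: the involutions of `C(3B)` (true value about `8.98e8`). -/
def BoxN2 : Prop := ∀ x : MG, T3B x → {t : MG | orderOf t = 2 ∧ t * x = x * t}.ncard ≤ 10 ^ 9

/-- Box `NI`: the involutions inverting an element of class `3B`. -/
def BoxNI : Prop := ∀ x : MG, T3B x → {t : MG | orderOf t = 2 ∧ t * x = x⁻¹ * t}.ncard ≤ 4 * 10 ^ 10

/-- Box `N3`: the elements of order three of `C(3B)`. -/
def BoxN3 : Prop := ∀ x : MG, T3B x → {y : MG | orderOf y = 3 ∧ y * x = x * y}.ncard ≤ 28 * 10 ^ 13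

/-- Box `N5`: the elements of order five of `C(3B)`. -/
def BoxN5 : Prop := ∀ x : MG, T3B x → {y : MG | orderOf y = 5 ∧ y * x = x * y}.ncard ≤ 36 * 10 ^ 15

/-- Box `Gam`: the elements of class `3A` of `C(3B)`. -/
def BoxGam : Prop := ∀ x : MG, T3B x → {y : MG | T3A y ∧ y * x = x * y}.ncard ≤ 10 ^ 11

/-- Box `Rk`: elementary abelian `3`-subgroups containing an element of class `3B`. -/
def BoxRk : Prop := ∀ (V : Subgroup MG) (x : MG), (∀ v ∈ V, v ^ 3 = 1) → (∀ v ∈ V, ∀ w ∈ V, v * w = w * v) →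
  x ∈ V → T3B x → Nat.card V ≤ 3 ^ 8

/-- Box `P27`: a `3A`-pure elementary abelian subgroup has order at most nine. -/
def BoxP27 : Prop := ∀ V : Subgroup MG, (∀ v ∈ V, v ≠ 1 → T3A v) → (∀ v ∈ V, ∀ w ∈ V, v * w = w * v) →
  Nat.card V ≤ 9

/-- Box `PL`: a `3A`-pure group `⟨x, y⟩` of order nine maps to the class `3A` of `Fi24'`. -/
def BoxPL : Prop := ∀ (x y : MG) (H : Subgroup MG), T3A x → T3A y → T3A (y * x) → T3A (y * x⁻¹) → y * x = x * y →
  y ∉ zpowers x → (∀ h ∈ H, h * x = x * h ∧ h * y * h⁻¹ * y⁻¹ ∈ zpowers x) → Nat.card H ∣ 3 * c0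

/-- Box `AA`: the `2A`-involutions of `C(3A)` (true value `4860485028`). -/
def BoxAA : Prop := ∀ x : MG, T3A x → {t : MG | TA t ∧ t * x = x * t}.ncard ≤ 7 * 10 ^ 9

/-- Box `N3A`: no pair in the normaliser of a group of order three of class `3A`. -/
def BoxN3A : Prop := ∀ x : MG, T3A x → NoPairIn (normalizer (zpowers x : Set MG))

/-- Box `L3C`: `V` contains an element of class `3C`. -/
def BoxL3C : Prop := ∀ A B V : Subgroup MG, IsPair A B → MinInv 3 A V → (∃ x ∈ V, T3C x) → False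

/-- Box `L3A`: `V` is `3A`-pure. -/
def BoxL3A : Prop := ∀ A B V : Subgroup MG, IsPair A B → MinInv 3 A V → (∀ v ∈ V, v ≠ 1 → T3A v) → False

/-- Box `L3B`: `V` consists of elements of the classes `3A`, `3B`, and `3B` occurs. -/
def BoxL3B : Prop := ∀ A B V : Subgroup MG, IsPair A B → MinInv 3 A V → (∀ v ∈ V, v ≠ 1 → T3A v ∨ T3B v) →
  (∃ x ∈ V, T3B x) → False

theorem T3B.order {x : MG} (h : T3B x) : orderOf x = 3 := by
  obtain ⟨x', h1, -, c, rfl⟩ := h
  exact (orderOf_injective (MulAut.conj c).toMonoidHom (MulAut.conj c).injective (x' : MG)).trans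
    ((Subgroup.orderOf_coe x').trans h1)

theorem T3B.conj {x : MG} (h : T3B x) (g : MG) : T3B (g * x * g⁻¹) := by
  obtain ⟨x', h1, h2, c, rfl⟩ := h
  exact ⟨x', h1, h2, g * c, by group⟩

theorem T3B.card_dvd {x : MG} (h : T3B x) : Nat.card (centralizer ({x} : Set MG)) ∣ dD := by
  obtain ⟨x', h1, h2, c, hc⟩ := h
  rw [BpSpor.card_cent_of_conj hc]
  exact H199.AbMon.three_zero' h1 h2

theorem T3A.conj {x : MG} (h : T3A x) (g : MG) : T3A (g * x * g⁻¹) :=
  ⟨(orderOf_injective (MulAut.conj g).toMonoidHom (MulAut.conj g).injective x).trans h.1,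
    (BpSpor.card_cent_of_conj rfl).trans h.2⟩

theorem T3C.conj {x : MG} (h : T3C x) (g : MG) : T3C (g * x * g⁻¹) :=
  ⟨(orderOf_injective (MulAut.conj g).toMonoidHom (MulAut.conj g).injective x).trans h.1,
    (BpSpor.card_cent_of_conj rfl).trans h.2⟩

theorem T3B.not_A {x : MG} (h : T3B x) : ¬ T3A x := fun hA => by
  have h1 := h.card_dvd
  rw [hA.2] at h1
  exact absurd h1 (by norm_num)

theorem T3B.not_C {x : MG} (h : T3B x) : ¬ T3C x := fun hA => by
  have h1 := h.card_dvd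
  rw [hA.2] at h1
  exact absurd h1 (by norm_num)

theorem T3A.not_C {x : MG} (h : T3A x) : ¬ T3C x := fun hC => by
  have h1 := h.2
  rw [hC.2] at h1
  norm_num at h1

/-- the classes of the elements of order three of `C(zz)`, by the fixed rank -/
theorem tri_in {x : centralizer ({zz} : Set MG)} (hx : orderOf x = 3) :
    (T3A (x : MG) ∧ fr (pi x) = 2 ^ 12 ∧ Spor.IsoFi24' (XX (x : MG))) ∨
      (T3B (x : MG) ∧ (fr (pi x) = 1 ∨ fr (pi x) = 2 ^ 6)) ∨
      (T3C (x : MG) ∧ fr (pi x) = 2 ^ 8 ∧ Spor.IsoTh (XX (x : MG))) := by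
  have := BpSpor.MBigModel.finite
  have := BpSpor.MBigModel.simple
  have I := CoOneFin.coOne
  have htr := KPair.trNe KDone.lft LThreeB.Row.cent (LThreeMBTr.traceNe KDone.lft LThreeMBTr.TensK.tens)
  have hxo : orderOf (x : MG) = 3 := by rw [Subgroup.orderOf_coe, hx]
  rcases I.ranks (pi x) (orderOf_pi chart hx) with h1 | h1 | h1 | h1
  · exact Or.inr (Or.inl ⟨⟨x, hx, h1, 1, by group⟩, Or.inl h1⟩)
  · obtain ⟨x₀, u, g, hx₀, hfr₀, huz, hux, hne, hg⟩ :=
      KPair.hasPair KDone.lft LThreeB.Row.cent PreUniq.MonRow.second COct.octPair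
    obtain ⟨k, hk⟩ := conj_six chart htr I.ranks I.six
      (fun x hx h2 => ⟨(good_of_inputs chart I hx h2 : Good.{0} _).simple, (good_of_inputs chart I hx h2 : Good.{0} _).nc⟩)
      hx₀ hfr₀ huz hux hne hg hx h1
    exact Or.inr (Or.inl ⟨⟨x₀, hx₀, hfr₀, k⁻¹, by rw [← hk]; group⟩, Or.inr h1⟩)
  · obtain ⟨e⟩ := LThreeB.isoTh_of_inputs chart I hx h1
    exact Or.inr (Or.inr ⟨⟨hxo, by
      rw [H199.NSmMon.card_XX, hxo, Nat.card_congr e.toEquiv, Cfsg.Agent.S1700.result.2]⟩, h1, ⟨e⟩⟩)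
  · obtain ⟨e⟩ := LThreeB.isoFi_of_inputs chart I hx h1
    exact Or.inl ⟨⟨hxo, by
      rw [H199.NSmMon.card_XX, hxo, Nat.card_congr e.toEquiv, Cfsg.Agent.S1698.result.2]⟩, h1, ⟨e⟩⟩

/-- an element of order three with a centralizer of even order is conjugate into `C(zz)` -/
theorem exists_in' {x : MG} (hx : orderOf x = 3) (he : 2 ∣ Nat.card (centralizer ({x} : Set MG))) :
    ∃ (x' : centralizer ({zz} : Set MG)) (c : MG), orderOf x' = 3 ∧ c * x' * c⁻¹ = x := by
  obtain ⟨g, hg⟩ := H199.NSmMon.ev_of_even hx (by rw [Nat.not_odd_iff_even]; exact even_iff_two_dvd.2 he)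
  have h1 : (g⁻¹ * x * g) * zz = zz * (g⁻¹ * x * g) := by
    calc (g⁻¹ * x * g) * zz = g⁻¹ * (x * (g * zz * g⁻¹)) * g := by group
      _ = g⁻¹ * ((g * zz * g⁻¹) * x) * g := by rw [hg]
      _ = zz * (g⁻¹ * x * g) := by group
  refine ⟨⟨g⁻¹ * x * g, mem_centralizer_singleton_iff.2 h1⟩, g, ?_, by
    change g * (g⁻¹ * x * g) * g⁻¹ = x
    group⟩
  rw [Subgroup.orderOf_mk, orderOf_conj', hx]

/-- **The three classes.** -/
theorem tri_ev {x : MG} (hx : orderOf x = 3) (he : 2 ∣ Nat.card (centralizer ({x} : Set MG))) :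
    T3A x ∨ T3B x ∨ T3C x := by
  obtain ⟨x', c, h1, rfl⟩ := exists_in' hx he
  rcases tri_in h1 with h | h | h
  · exact Or.inl (h.1.conj c)
  · exact Or.inr (Or.inl (h.1.conj c))
  · exact Or.inr (Or.inr (h.1.conj c))

theorem conj_of_fr {n : ℕ} (hn : ClassOf n) {x y : centralizer ({zz} : Set MG)} (hx : orderOf x = 3)
    (hy : orderOf y = 3) (h1 : fr (pi x) = n) (h2 : fr (pi y) = n) : ∃ c : MG, c * y * c⁻¹ = x := by
  obtain ⟨x', hx', e, c, hc⟩ := exists_conj_to chart hx (orderOf_pi chart hy) (h1 ▸ hn) (h2.trans h1.symm)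
  obtain ⟨q, -, hq⟩ := exists_conj_of_pi_eq chart (x := y) (y := x') (by rw [← hy, pow_orderOf_eq_one])
    (by rw [← hx', pow_orderOf_eq_one]) e.symm
  exact ⟨c * q, by rw [← hc, ← hq]; group⟩

/-- `3A` : a representative in `C(zz)` -/
theorem T3A.exists_in {x : MG} (h : T3A x) : ∃ (x' : centralizer ({zz} : Set MG)) (c : MG), orderOf x' = 3 ∧
    fr (pi x') = 2 ^ 12 ∧ Spor.IsoFi24' (XX (x' : MG)) ∧ c * x' * c⁻¹ = x := by
  obtain ⟨x', c, h1, rfl⟩ := exists_in' h.1 (by rw [h.2]; norm_num)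
  rcases tri_in h1 with k | k | k
  · exact ⟨x', c, h1, k.2.1, k.2.2, rfl⟩
  · exact absurd h (k.1.conj c).not_A
  · exact absurd (k.1.conj c) h.not_C

/-- `3A` is one class -/
theorem T3A.isConj {x y : MG} (hx : T3A x) (hy : T3A y) : ∃ c : MG, c * y * c⁻¹ = x := by
  obtain ⟨x', c, h1, h2, -, rfl⟩ := hx.exists_in
  obtain ⟨y', d, h3, h4, -, rfl⟩ := hy.exists_in
  obtain ⟨k, hk⟩ := conj_of_fr CoOneFin.coOne.twelve h1 h3 h2 h4
  exact ⟨c * k * d⁻¹, by rw [← hk]; group⟩

/-- **Box `L 3` from the three cases.** -/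
theorem boxL3_of (hE : BoxEv3) (hA : BoxL3A) (hB : BoxL3B) (hC : BoxL3C) : BoxL 3 := by
  intro A B V h hV
  by_cases h1 : ∃ x ∈ V, T3C x
  · exact hC A B V h hV h1
  have h2 : ∀ v ∈ V, v ≠ 1 → T3A v ∨ T3B v := fun v hv h0 => by
    have ho := hV.orderOf_eq Nat.prime_three hv h0
    rcases tri_ev ho (hE v ho) with k | k | k
    · exact Or.inl k
    · exact Or.inr k
    · exact absurd ⟨v, hv, k⟩ h1
  by_cases h3 : ∃ x ∈ V, T3B x
  · exact hB A B V h hV h2 h3
  · exact hA A B V h hV fun v hv h0 => (h2 v hv h0).resolve_right fun k => h3 ⟨v, hv, k⟩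

end Cfsg.Agent.SP.Mon
end

-- part: SP/Mon/NL/TwoA
section
prune_inst 0x10441040220000000000002000000010000002004000002000000008080000c0000000000000100000888000000028130000004000000000000000000400000000020000740c00000000000000000000000000000000000000000000000000000000000
set_option linter.all false
open scoped Cfsg.Agent.FastGrp

-- part: SP/Mon/NL/Pairs
section
/-! # S5755, the Monster: counting pairs of involutions by their product (general part)

`np Y Q` is the number of pairs `(u, v)` of elements of `Y` whose product satisfies `Q`. -/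

set_option autoImplicit false
set_option linter.style.haveILetI false

namespace Cfsg.Agent.SP.Mon.NL

open Subgroup

variable {G : Type*} [Group G]

/-- the pairs from `Y` whose product satisfies `Q` -/
noncomputable def np (Y : Set G) (Q : G → Prop) : ℕ :=
  {p : G × G | p.1 ∈ Y ∧ p.2 ∈ Y ∧ Q (p.1 * p.2)}.ncard

/-- the first members of the pairs from `Y` with product `g` -/
def fst (Y : Set G) (g : G) : Set G := {u | u ∈ Y ∧ u⁻¹ * g ∈ Y}

theorem np_true (Y : Set G) : np Y (fun _ => True) = Y.ncard ^ 2 := by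
  unfold np
  rw [pow_two, ← Set.ncard_prod]
  congr 1
  ext p
  simp

theorem np_mono [Finite G] {Y : Set G} {Q R : G → Prop}
    (h : ∀ u ∈ Y, ∀ v ∈ Y, Q (u * v) → R (u * v)) : np Y Q ≤ np Y R :=
  Set.ncard_le_ncard (fun _ hp => ⟨hp.1, hp.2.1, h _ hp.1 _ hp.2.1 hp.2.2⟩) (Set.toFinite _)

theorem np_split [Finite G] (Y : Set G) (Q R : G → Prop) :
    np Y Q ≤ np Y (fun g => Q g ∧ R g) + np Y (fun g => Q g ∧ ¬ R g) := by
  unfold np
  refine le_trans (Set.ncard_le_ncard ?_ (Set.toFinite _)) (Set.ncard_union_le _ _)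
  intro p hp
  by_cases h : R (p.1 * p.2)
  · exact Or.inl ⟨hp.1, hp.2.1, hp.2.2, h⟩
  · exact Or.inr ⟨hp.1, hp.2.1, hp.2.2, h⟩

theorem np_or [Finite G] (Y : Set G) (Q R : G → Prop) :
    np Y (fun g => Q g ∨ R g) ≤ np Y Q + np Y R := by
  unfold np
  refine le_trans (Set.ncard_le_ncard ?_ (Set.toFinite _)) (Set.ncard_union_le _ _)
  intro p hp
  rcases hp.2.2 with h | h
  · exact Or.inl ⟨hp.1, hp.2.1, h⟩
  · exact Or.inr ⟨hp.1, hp.2.1, h⟩

theorem np_le_sum [Finite G] {Y : Set G} {Q : G → Prop} (Z : Finset G) (f : G → ℕ)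
    (hZ : ∀ u ∈ Y, ∀ v ∈ Y, Q (u * v) → u * v ∈ Z)
    (hf : ∀ u ∈ Y, ∀ v ∈ Y, Q (u * v) → (fst Y (u * v)).ncard ≤ f (u * v)) :
    np Y Q ≤ ∑ g ∈ Z, f g := by
  classical
  haveI := Fintype.ofFinite G
  let P : Finset (G × G) := Finset.univ.filter fun p => p.1 ∈ Y ∧ p.2 ∈ Y ∧ Q (p.1 * p.2)
  have e : np Y Q = P.card := by
    unfold np
    rw [← Set.ncard_coe_finset]
    congr 1
    ext p
    simp [P]
  have hP : ∀ p, p ∈ P ↔ p.1 ∈ Y ∧ p.2 ∈ Y ∧ Q (p.1 * p.2) := fun p => by simp [P]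
  rw [e, Finset.card_eq_sum_card_fiberwise (f := fun p : G × G => p.1 * p.2) (t := Z)
    (fun p hp => by
      obtain ⟨h1, h2, h3⟩ := (hP p).1 hp
      exact hZ _ h1 _ h2 h3)]
  refine Finset.sum_le_sum fun g _ => ?_
  rcases Finset.eq_empty_or_nonempty (P.filter fun p => p.1 * p.2 = g) with h0 | ⟨p, hp⟩
  · rw [h0]; exact Nat.zero_le _
  obtain ⟨hp1, rfl⟩ := Finset.mem_filter.1 hp
  obtain ⟨h1, h2, h3⟩ := (hP p).1 hp1
  refine le_trans ?_ (hf _ h1 _ h2 h3)
  rw [← Set.ncard_coe_finset]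
  refine Set.ncard_le_ncard_of_injOn Prod.fst ?_ ?_ (Set.toFinite _)
  · intro q hq
    obtain ⟨hq1, hq2⟩ := Finset.mem_filter.1 hq
    obtain ⟨k1, k2, -⟩ := (hP q).1 hq1
    refine ⟨k1, ?_⟩
    rw [← hq2, inv_mul_cancel_left]
    exact k2
  · intro q hq q' hq' e
    obtain ⟨-, hq2⟩ := Finset.mem_filter.1 hq
    obtain ⟨-, hq2'⟩ := Finset.mem_filter.1 hq'
    refine Prod.ext e ?_
    have : q.1 * q.2 = q.1 * q'.2 := by rw [hq2, e, hq2']
    exact mul_left_cancel this

theorem np_le_mul [Finite G] {Y : Set G} {Q : G → Prop} (Z : Set G) (c : ℕ)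
    (hZ : ∀ u ∈ Y, ∀ v ∈ Y, Q (u * v) → u * v ∈ Z)
    (hf : ∀ u ∈ Y, ∀ v ∈ Y, Q (u * v) → (fst Y (u * v)).ncard ≤ c) :
    np Y Q ≤ c * Z.ncard := by
  classical
  have h := np_le_sum (Set.toFinite Z).toFinset (fun _ => c) (fun u hu v hv h => by
    simpa using hZ u hu v hv h) hf
  rw [Finset.sum_const, smul_eq_mul, mul_comm, ← Set.ncard_eq_toFinset_card Z] at h
  exact h

/-- pairs of involutions with a given product -/
theorem fst_le_cent [Finite G] {X : Subgroup G} {Y : Set G} (hY : ∀ y ∈ Y, y ∈ X ∧ y * y = 1) (g : G) :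
    (fst Y g).ncard ≤ Nat.card (X ⊓ centralizer ({g} : Set G) : Subgroup G) := by
  rcases (fst Y g).eq_empty_or_nonempty with h0 | ⟨u₀, hu₀⟩
  · rw [h0]; simp only [_root_.Set.ncard_empty, _root_.Subgroup.mem_inf, _root_.zero_le]
  have key : ∀ u ∈ fst Y g, u * g * u = g⁻¹ := by
    intro u hu
    have h1 := (hY u hu.1).2
    have h2 := (hY _ hu.2).2
    have h3 : u⁻¹ = u := inv_eq_of_mul_eq_one_left h1
    rw [h3] at h2
    refine eq_inv_of_mul_eq_one_left ?_
    rw [← h2]; group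
  rw [← SetLike.coe_sort_coe, Nat.card_coe_set_eq]
  refine Set.ncard_le_ncard_of_injOn (fun u => u * u₀) ?_ ?_ (Set.toFinite _)
  · intro u hu
    refine ⟨X.mul_mem (hY u hu.1).1 (hY u₀ hu₀.1).1, mem_centralizer_singleton_iff.2 ?_⟩
    have h1 := key u hu
    have h2 := key u₀ hu₀
    have h3 := (hY u hu.1).2
    have h4 := (hY u₀ hu₀.1).2
    calc u * u₀ * g = u * (u₀ * g * u₀) * u₀ * (u₀ * u₀)⁻¹ * (u₀ * u₀) * (u₀ * u₀)⁻¹ := by group
      _ = u * (u * g * u) * u₀ := by rw [h4, h2, h1]; group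
      _ = (u * u) * g * (u * u₀) := by group
      _ = g * (u * u₀) := by rw [h3, one_mul]
  · intro u _ v _ e
    exact mul_right_cancel e

/-- `∑ |C(g)|` over a union of conjugacy classes -/
theorem sum_cent_le {H : Type*} [Group H] [Finite H] (Z : Finset H) (P : ConjClasses H → Prop)
    (hZ : ∀ g ∈ Z, P (ConjClasses.mk g)) :
    ∑ g ∈ Z, Nat.card (centralizer ({g} : Set H)) ≤ Nat.card {C : ConjClasses H // P C} * Nat.card H := by
  classical
  have hr : ∀ C : ConjClasses H, ∃ r, ConjClasses.mk r = C := ConjClasses.exists_rep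
  choose r hr using hr
  have ht : ∀ g : H, ∃ t : H, t * r (ConjClasses.mk g) * t⁻¹ = g := fun g =>
    isConj_iff.1 (ConjClasses.mk_eq_mk_iff_isConj.1 (hr _))
  choose t ht using ht
  have e : ∑ g ∈ Z, Nat.card (centralizer ({g} : Set H)) =
      Nat.card (Σ g : Z, centralizer ({(g : H)} : Set H)) := by
    rw [Nat.card_sigma, Finset.sum_coe_sort Z fun g => Nat.card (centralizer ({g} : Set H))]
  rw [e, ← Nat.card_prod]
  refine Nat.card_le_card_of_injective
    (fun x => ((⟨ConjClasses.mk (x.1 : H), hZ _ x.1.2⟩ : {C : ConjClasses H // P C}), (x.2 : H) * t x.1)) ?_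
  rintro ⟨⟨g, hg⟩, c, hc⟩ ⟨⟨g', hg'⟩, c', hc'⟩ e
  have e1 : ConjClasses.mk g = ConjClasses.mk g' := congrArg (fun p => p.1.1) e
  have e2 : c * t g = c' * t g' := congrArg Prod.snd e
  have k : ∀ {g c : H}, c ∈ centralizer ({g} : Set H) →
      (c * t g) * r (ConjClasses.mk g) * (c * t g)⁻¹ = g := by
    intro g c hc
    have h1 := mem_centralizer_singleton_iff.1 hc
    calc (c * t g) * r (ConjClasses.mk g) * (c * t g)⁻¹
        = c * (t g * r (ConjClasses.mk g) * (t g)⁻¹) * c⁻¹ := by group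
      _ = g := by rw [ht, h1]; group
  have e3 : g = g' := by
    have h1 := k (g := g) hc
    have h2 := k (g := g') hc'
    rw [e2, e1] at h1
    exact h1.symm.trans h2
  subst e3
  have e4 : c = c' := mul_right_cancel e2
  subst e4
  rfl

theorem card_inf_cent (X : Subgroup G) (x : X) :
    Nat.card (X ⊓ centralizer ({(x : G)} : Set G) : Subgroup G) = Nat.card (centralizer ({x} : Set X)) := by
  refine Nat.card_congr ⟨fun c => ⟨⟨c.1, c.2.1⟩, ?_⟩, fun c => ⟨c.1.1, c.1.2, ?_⟩, fun _ => rfl, fun _ => rfl⟩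
  · exact mem_centralizer_singleton_iff.2 (Subtype.ext (mem_centralizer_singleton_iff.1 c.2.2))
  · exact mem_centralizer_singleton_iff.2 (congrArg Subtype.val (mem_centralizer_singleton_iff.1 c.2))

/-- **Pairs of involutions of `X` whose product is a `π`-element**: `m` is the `π`-part of `|X|`. -/
theorem np_pi [Finite G] {X : Subgroup G} {Y : Set G} (hY : ∀ y ∈ Y, y ∈ X ∧ y * y = 1)
    (π : Set ℕ) (hπ : ∀ q ∈ π, q.Prime) (m : ℕ) (hm : m ∣ Nat.card X)
    (hmπ : ∀ q : ℕ, q.Prime → q ∣ m → q ∈ π) (hm' : ∀ q ∈ π, ¬ q ∣ Nat.card X / m) {Q : G → Prop}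
    (hQ : ∀ u ∈ Y, ∀ v ∈ Y, Q (u * v) → ∀ q : ℕ, q.Prime → q ∣ orderOf (u * v) → q ∈ π) :
    np Y Q ≤ m * Nat.card X := by
  classical
  haveI := Fintype.ofFinite X
  let Z : Finset X := Finset.univ.filter fun g => ∀ q : ℕ, q.Prime → q ∣ orderOf g → q ∈ π
  have h1 := np_le_sum (Y := Y) (Q := Q) (Z.map ⟨Subtype.val, Subtype.val_injective⟩)
    (fun g => Nat.card (X ⊓ centralizer ({g} : Set G) : Subgroup G)) (fun u hu v hv h => by
      refine Finset.mem_map.2 ⟨⟨u * v, X.mul_mem (hY u hu).1 (hY v hv).1⟩, ?_, rfl⟩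
      refine Finset.mem_filter.2 ⟨Finset.mem_univ _, fun q hq hd => hQ u hu v hv h q hq ?_⟩
      rwa [orderOf_mk] at hd) (fun u _ v _ _ => fst_le_cent hY _)
  rw [Finset.sum_map] at h1
  refine h1.trans (le_trans (le_of_eq (Finset.sum_congr rfl fun x _ => card_inf_cent X x)) ?_)
  refine (sum_cent_le Z (fun C => ∀ q : ℕ, q.Prime → (∃ g : X, ConjClasses.mk g = C ∧ q ∣ orderOf g) → q ∈ π)
    fun g hg q hq ⟨g', e, hd⟩ => (Finset.mem_filter.1 hg).2 q hq ?_).trans
    (Nat.mul_le_mul_right _ (Cfsg.Agent.S4106.result π hπ m hm hmπ hm'))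
  obtain ⟨c, hc⟩ := isConj_iff.1 (ConjClasses.mk_eq_mk_iff_isConj.1 e)
  rw [← hc, ← MulAut.conj_apply, MulEquiv.orderOf_eq]
  exact hd

/-- **Pairs of involutions of `X` whose product has a small centralizer.** -/
theorem np_cent [Finite G] {X : Subgroup G} {Y : Set G} (hY : ∀ y ∈ Y, y ∈ X ∧ y * y = 1) {Q : G → Prop} (c : ℕ)
    (hQ : ∀ u ∈ Y, ∀ v ∈ Y, Q (u * v) → Nat.card (X ⊓ centralizer ({u * v} : Set G) : Subgroup G) ≤ c) :
    np Y Q ≤ c * Nat.card X := by
  rw [← SetLike.coe_sort_coe, Nat.card_coe_set_eq]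
  exact np_le_mul (X : Set G) c (fun u hu v hv _ => X.mul_mem (hY u hu).1 (hY v hv).1)
    fun u hu v hv h => (fst_le_cent hY _).trans (hQ u hu v hv h)

theorem np_one [Finite G] {Y : Set G} : np Y (fun g => g = 1) ≤ Y.ncard := by
  have h := np_le_mul (Y := Y) (Q := fun g => g = 1) {1} Y.ncard (fun u _ v _ h => h)
    fun u _ v _ _ => Set.ncard_le_ncard (fun _ h => h.1) (Set.toFinite _)
  simpa using h

/-- **The graph bound**: `Q` defines a graph on `Y` in which two distinct points have at most `μ` common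
neighbours. -/
theorem np_graph [Finite G] {Y : Set G} {Q : G → Prop} (μ : ℕ)
    (h : ∀ u ∈ Y, ∀ v ∈ Y, u ≠ v → {w | w ∈ Y ∧ Q (w * u) ∧ Q (w * v)}.ncard ≤ μ) :
    np Y Q ^ 2 ≤ Y.ncard * (np Y Q + μ * Y.ncard ^ 2) := by
  classical
  obtain ⟨S, rfl⟩ : ∃ S : Finset G, Y = S := ⟨(Set.toFinite Y).toFinset, by simp⟩
  rw [Set.ncard_coe_finset]
  let d : G → ℕ := fun w => ∑ u ∈ S, if Q (w * u) then 1 else 0
  have e1 : np (S : Set G) Q = ∑ w ∈ S, d w := by
    unfold np
    have : {p : G × G | p.1 ∈ (S : Set G) ∧ p.2 ∈ (S : Set G) ∧ Q (p.1 * p.2)} =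
        ((S ×ˢ S).filter fun p => Q (p.1 * p.2) : Finset (G × G)) := by
      ext p; simp [and_assoc]
    rw [this, Set.ncard_coe_finset, Finset.card_filter, Finset.sum_product]
  have e2 : ∑ w ∈ S, d w ^ 2 = ∑ u ∈ S, ∑ v ∈ S, ∑ w ∈ S, if Q (w * u) ∧ Q (w * v) then 1 else 0 := by
    have : ∀ w, d w ^ 2 = ∑ u ∈ S, ∑ v ∈ S, if Q (w * u) ∧ Q (w * v) then 1 else 0 := by
      intro w
      rw [pow_two, Finset.sum_mul_sum]
      refine Finset.sum_congr rfl fun u _ => Finset.sum_congr rfl fun v _ => ?_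
      by_cases h1 : Q (w * u) <;> by_cases h2 : Q (w * v) <;> simp [h1, h2]
    simp only [this]
    rw [Finset.sum_comm]
    exact Finset.sum_congr rfl fun u _ => Finset.sum_comm
  have e3 : ∀ u ∈ S, ∑ v ∈ S, ∑ w ∈ S, (if Q (w * u) ∧ Q (w * v) then 1 else 0) ≤
      (∑ w ∈ S, if Q (w * u) then 1 else 0) + μ * S.card := by
    intro u hu
    rw [← Finset.add_sum_erase S _ hu]
    refine Nat.add_le_add (le_of_eq (by simp)) ?_
    refine le_trans (Finset.sum_le_card_nsmul _ _ μ fun v hv => ?_) ?_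
    · obtain ⟨h1, h2⟩ := Finset.mem_erase.1 hv
      refine le_trans (le_of_eq ?_) (h u hu v h2 h1.symm)
      rw [← Finset.card_filter, ← Set.ncard_coe_finset]
      congr 1
      ext w; simp
    · rw [smul_eq_mul, mul_comm]
      exact Nat.mul_le_mul_left _ (Finset.card_erase_le)
  have e4 : ∑ w ∈ S, d w ^ 2 ≤ ∑ w ∈ S, d w + μ * S.card ^ 2 := by
    rw [e2]
    refine (Finset.sum_le_sum e3).trans (le_of_eq ?_)
    rw [Finset.sum_add_distrib, Finset.sum_comm, Finset.sum_const, smul_eq_mul]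
    ring
  rw [e1]
  exact (sq_sum_le_card_mul_sum_sq (s := S) (f := d)).trans (Nat.mul_le_mul_left _ e4)

end Cfsg.Agent.SP.Mon.NL
end

-- part: SP/Mon/NL/TwoA
section
/-! # S5755, the Monster: the number of `2A`-involutions in a subset

`a_sq` : a set `Y` of `2A`-involutions with all products in `Z` satisfies `|Y| ≤ 1.6 · 10 ^ 9` or
`94 |Y| ^ 2 ≤ 100 (196560 b + P + 2208 |Z|)`, `b` the number of `2B`-involutions of `Z`, `P` the number of
pairs with a product of order 3. -/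

set_option autoImplicit false
set_option maxRecDepth 100000
set_option linter.style.haveILetI false

namespace Cfsg.Agent.SP.Mon.NL

open Cfsg Cfsg.Agent.MonsterX.InstData Cfsg.Agent.MonsterU Cfsg.Agent.MonsterU.Lam2
open Cfsg.Agent.H816.MSch Cfsg.Agent.H816.IMEig
open Cfsg.Agent.H816.M23.Tx Cfsg.Agent.H816.M23.Inst Cfsg.Agent.H816.M23.Abs Cfsg.Agent.H816.M23.Main
open Cfsg.Agent.BpSpor.MBigModel (MG zz pi chart cls)
open Cfsg.Agent.LThreeB.Row (TA)
open Cfsg.Spor (Co1)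
open Subgroup (centralizer zpowers mem_centralizer_singleton_iff)

/-- the projection `Q → Λ / 2 Λ` -/
noncomputable abbrev eta : MG → L2 := LThreeMB.KChart.eta MonsterX.KDone.lft

/-- the extraspecial group -/
noncomputable abbrev QQ : Subgroup MG := MonsterX.KDone.K.ι.range

/-- `|C(g) ∩ K|` for `K ≤ C(z)`: the kernel and the image in `Co1` -/
theorem card_le_ker_mul {K : Subgroup MG} (hK : K ≤ centralizer ({zz} : Set MG)) (L : Subgroup Co1)
    (hL : ∀ c : centralizer ({zz} : Set MG), (c : MG) ∈ K → pi c ∈ L) :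
    Nat.card K ≤ Nat.card (K ⊓ QQ : Subgroup MG) * Nat.card L := by
  have := BpSpor.MBigCo.finite_co1
  let f : K →* Co1 := pi.comp (Subgroup.inclusion hK)
  have h1 : Nat.card f.ker ≤ Nat.card (K ⊓ QQ : Subgroup MG) :=
    Nat.card_le_card_of_injective (fun x => (⟨x.1.1, x.1.2, (chart.pi_eq_one _).1 x.2⟩ :
      (K ⊓ QQ : Subgroup MG))) fun a b e =>
        Subtype.ext (Subtype.ext (congrArg (fun p : (K ⊓ QQ : Subgroup MG) => (p : MG)) e))
  have h2 : Nat.card f.range ≤ Nat.card L := Subgroup.card_le_of_le (by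
    rintro _ ⟨x, rfl⟩
    exact hL _ x.2)
  rw [← f.ker.card_mul_index, Subgroup.index_ker]
  exact Nat.mul_le_mul h1 h2

theorem card_stab_three {v : L2} (hv : IsType 3 v) : Nat.card (MulAction.stabilizer Co1 v) = 495766656000 := by
  obtain ⟨g, hg⟩ := IsType.trans (Or.inr (Or.inl rfl)) H849.StabCo3.isType_V hv
  rw [← hg, ← mk_smul, MulAction.stabilizer_smul_eq_stabilizer_map_conj,
    Subgroup.card_map_of_injective (MulAut.conj _).injective, ← Nat.card_congr H849.StabCo3.stabEquiv.toEquiv]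
  exact NotCT.Orders.co3 ⟨MulEquiv.refl _⟩

theorem isType_three {q : MG} (hq : q ∈ QQ) (h : q * q = zz) :
    IsType 3 (eta q) := by
  have h1 : qf (eta q) = 1 := (chart.sq_z hq).1 h
  rcases type_cases (eta q) with h2 | h2 | h2 | h2
  · rw [h2, qf_zero] at h1; exact absurd h1 (by decide)
  · rw [Ch.qf_of_type h2] at h1; exact absurd h1 (by decide)
  · exact h2
  · rw [Ch.qf_of_type h2] at h1; exact absurd h1 (by decide)

theorem cent_Q_four {q : MG} (hq : q ∈ QQ) (h : q * q = zz) :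
    Nat.card (centralizer ({q} : Set MG)) ≤ 2 ^ 25 * 495766656000 := by
  have hle : centralizer ({q} : Set MG) ≤ centralizer ({zz} : Set MG) := fun c hc => by
    have h1 : Commute c q := mem_centralizer_singleton_iff.1 hc
    rw [mem_centralizer_singleton_iff, ← h]
    exact (h1.mul_right h1).eq
  refine (card_le_ker_mul hle (MulAction.stabilizer Co1 (eta q)) fun c hc => ?_).trans ?_
  · rw [MulAction.mem_stabilizer_iff, ← chart.eta_conj c q hq, mem_centralizer_singleton_iff.1 hc,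
      mul_inv_cancel_right]
  · rw [card_stab_three (isType_three hq h), ← chart.card_Q]
    exact Nat.mul_le_mul_right _ (Subgroup.card_le_of_le inf_le_right)

/-- **Square roots of a `2B`-involution.** -/
theorem cent_sq_z {g k : MG} (hg : k * zz * k⁻¹ = g * g) :
    Nat.card (centralizer ({g} : Set MG)) ≤ 2 ^ 25 * 495766656000 := by
  rcases H909.PwM.Base.inQ_or_z (g := g) (v := g * g)
    (Subgroup.mul_mem _ (Subgroup.mem_zpowers g) (Subgroup.mem_zpowers g)) hg with ⟨l, hl⟩ | h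
  · rw [← H909.PwM.Base.card_cent_conj l g]
    refine cent_Q_four hl ((chart.large.sq _ hl).resolve_left fun h => ?_)
    have h1 : l * g * l⁻¹ * (l * g * l⁻¹) = (l * k) * zz * (l * k)⁻¹ := by
      calc l * g * l⁻¹ * (l * g * l⁻¹) = l * (g * g) * l⁻¹ := by group
        _ = _ := by rw [← hg]; group
    rw [h1, mul_inv_eq_one, mul_eq_left] at h
    exact BpSpor.MBigModel.zz_ne h
  · exact h.trans (by norm_num)

theorem order_two {G : Type*} [Group G] {g : G} (h : g ^ 2 = 1) (h1 : g ≠ 1) : orderOf g = 2 := by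
  have : Fact (Nat.Prime 2) := ⟨Nat.prime_two⟩
  exact orderOf_eq_prime h h1

theorem N_five {x y : XT} (h : c x y = 5) : N tX x y ≤ 2208 := by
  have h4 := ax.five_four h
  have h2 := ax.five_ne h
  have hw : ∀ w, (tX x * tX y) ^ 2 ≠ tX w := by
    rw [ax.sq_eq]; exact (ax.two _ _ (ax.five x y h)).2
  have hC : Nat.card (centralizer ({tX x * tX y} : Set MG)) ≤ 2 ^ 25 * 495766656000 := by
    rcases cls (order_two (g := (tX x * tX y) ^ 2) (by rw [← pow_mul]; exact h4) h2) with ⟨k, hk⟩ | hk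
    · exact cent_sq_z (hk.trans (pow_two _))
    · obtain ⟨w, e⟩ := (ta_iff _).1 hk
      exact absurd e (hw w)
  refine bound h (fun s s' e => ?_) rfl ((Nat.mul_le_mul_right _ hC).trans (by
    show 2 ^ 25 * 495766656000 * (97239461142009186000 * 1102935324621312000) ≤
      2208 * 808017424794512875886459904961710757005754368000000000
    norm_num))
  rw [← e] at h4 h2 hw
  rcases nine (c s s') with k | k | k | k | k | k | k | k | k
  · exact absurd (by rw [ax.zero_one k, one_pow]) h2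
  · exact absurd (ax.one_sq k) h2
  · exact absurd (ax.two_sq k) h2
  · exact absurd (by rw [pow_one' h4 (ax.three _ _ k) rfl, one_pow]) h2
  · exact absurd (by rw [pow_one' h4 (ax.four _ _ k) rfl, one_pow]) h2
  · exact k
  · obtain ⟨w, e'⟩ := ax.six_w k
    exact absurd e' (hw w)
  · exact absurd (by rw [pow_one' h4 (ax.seven _ _ k) rfl, one_pow]) h2
  · exact absurd (pow_gcd h4 (ax.eight_six k)) h2

theorem N_six {x y : XT} (h : c x y = 6) : N tX x y ≤ 4 := by
  have h4 := ax.six_four h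
  have h2 := ax.six_ne h
  obtain ⟨w, hw⟩ := ax.six_w h
  have hC : Nat.card (centralizer ({tX x * tX y} : Set MG)) ≤ 26489012826931200 :=
    H909.PwM.TwoA.card_cent_le ((pow_two _).symm.trans hw) ((ta_iff _).2 ⟨w, rfl⟩)
  refine bound h (fun s s' e => ?_) rfl ((Nat.mul_le_mul_right _ hC).trans (by
    show 26489012826931200 * (97239461142009186000 * 1254793905192960000) ≤
      4 * 808017424794512875886459904961710757005754368000000000
    norm_num))
  rw [← e] at h4 h2 hw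
  rcases nine (c s s') with k | k | k | k | k | k | k | k | k
  · exact absurd (by rw [ax.zero_one k, one_pow]) h2
  · exact absurd (ax.one_sq k) h2
  · exact absurd (ax.two_sq k) h2
  · exact absurd (by rw [pow_one' h4 (ax.three _ _ k) rfl, one_pow]) h2
  · exact absurd (by rw [pow_one' h4 (ax.four _ _ k) rfl, one_pow]) h2
  · rw [ax.sq_eq] at hw
    exact absurd hw ((ax.two _ _ (ax.five _ _ k)).2 w)
  · exact k
  · exact absurd (by rw [pow_one' h4 (ax.seven _ _ k) rfl, one_pow]) h2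
  · exact absurd (pow_gcd h4 (ax.eight_six k)) h2

theorem N_eight {x y : XT} (h : c x y = 8) : N tX x y ≤ 6 := by
  have h6 := ax.eight_six h
  have h2 := ax.eight_two h
  have h3 := ax.eight_three h
  obtain ⟨w, hw⟩ := ax.eight_w h
  have hC : Nat.card (centralizer ({tX x * tX y} : Set MG)) ≤ 774741019852800 := by
    have : Fact (Nat.Prime 3) := ⟨Nat.prime_three⟩
    refine le_trans (Subgroup.card_le_of_le fun u hu => ?_) (H740.OreM.card_three (x := (tX x * tX y) ^ 2) (t := tX w)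
      (orderOf_eq_prime (by rw [← pow_mul]; exact h6) h2) ((ta_iff _).2 ⟨w, rfl⟩)
      (by rw [← hw, ← pow_add, ← pow_add]))
    have h1 : Commute u (tX x * tX y) := mem_centralizer_singleton_iff.1 hu
    exact ⟨mem_centralizer_singleton_iff.2 (h1.pow_right 2).eq,
      mem_centralizer_singleton_iff.2 (by rw [← hw]; exact (h1.pow_right 3).eq)⟩
  refine bound h (fun s s' e => ?_) rfl ((Nat.mul_le_mul_right _ hC).trans (by
    show 774741019852800 * (97239461142009186000 * 64353605265653760000) ≤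
      6 * 808017424794512875886459904961710757005754368000000000
    norm_num))
  rw [← e] at h6 h2 h3
  rcases nine (c s s') with k | k | k | k | k | k | k | k | k
  · exact absurd (by rw [ax.zero_one k, one_pow]) h2
  · exact absurd (ax.one_sq k) h2
  · exact absurd (ax.two_sq k) h2
  · exact absurd (ax.three _ _ k) h3
  · exact absurd (ax.four _ _ k) h3
  · exact absurd (pow_gcd (ax.five_four k) h6) h2
  · exact absurd (pow_gcd (ax.six_four k) h6) h2
  · exact absurd (by rw [pow_one' h6 (ax.seven _ _ k) rfl, one_pow]) h2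
  · exact k

theorem fst_le_N {Y : Set MG} (hY : ∀ y ∈ Y, TA y) (x y : XT) : (fst Y (tX x * tX y)).ncard ≤ N tX x y := by
  classical
  unfold N
  rw [← Set.ncard_coe_finset]
  refine le_trans (Set.ncard_le_ncard (t := tX '' _) ?_ (Set.toFinite _)) (Set.ncard_image_le (Set.toFinite _))
  intro u hu
  obtain ⟨s, rfl⟩ := (ta_iff _).1 (hY u hu.1)
  obtain ⟨s', hs'⟩ := (ta_iff _).1 (hY _ hu.2)
  refine ⟨s, ?_, rfl⟩
  simp only [Finset.coe_filter, Finset.mem_univ, true_and, Set.mem_ofPred_eq]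
  exact ⟨s', by rw [← hs', mul_inv_cancel_left]⟩

theorem ta_sq {t : MG} (h : TA t) : t * t = 1 := by
  obtain ⟨s, rfl⟩ := (ta_iff _).1 h
  exact ax.sq s

theorem ta_order {t : MG} (h : TA t) : orderOf t = 2 := by
  obtain ⟨s, rfl⟩ := (ta_iff _).1 h
  exact order_two (by rw [pow_two]; exact ax.sq s) (ax.ne s)

theorem ta_conj {t : MG} (h : TA t) (g : MG) : TA (g * t * g⁻¹) :=
  (show IsConj _ t from h).trans (isConj_iff.2 ⟨g, rfl⟩)

/-- the orders of the products of two `2A`-involutions -/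
theorem ta_mul_order {s t : MG} (hs : TA s) (ht : TA t) : orderOf (s * t) ≤ 6 := by
  obtain ⟨x, rfl⟩ := (ta_iff _).1 hs
  obtain ⟨y, rfl⟩ := (ta_iff _).1 ht
  rcases ax.pow_or x y with h | h | h
  · exact (orderOf_le_of_pow_eq_one (by norm_num) h).trans (by norm_num)
  · exact orderOf_le_of_pow_eq_one (by norm_num) h
  · exact (orderOf_le_of_pow_eq_one (by norm_num) h).trans (by norm_num)

theorem fst_two {Y : Set MG} (hY : ∀ y ∈ Y, TA y) {u v : MG} (hu : TA u) (hv : TA v) (h : orderOf (u * v) = 2)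
    (hn : ¬ TA (u * v)) : (fst Y (u * v)).ncard ≤ 196560 := by
  obtain ⟨x, rfl⟩ := (ta_iff _).1 hu
  obtain ⟨y, rfl⟩ := (ta_iff _).1 hv
  refine (fst_le_N hY x y).trans (N_two (two_col ax (by rw [← h, pow_orderOf_eq_one]) (fun e => ?_)
    fun w e => hn ((ta_iff _).2 ⟨w, e⟩)))
  rw [e, orderOf_one] at h
  norm_num at h

theorem fst_three {Y : Set MG} (hY : ∀ y ∈ Y, TA y) {u v : MG} (hu : TA u) (hv : TA v) (h : orderOf (u * v) = 3) :
    (fst Y (u * v)).ncard ≤ 920808 := by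
  obtain ⟨x, rfl⟩ := (ta_iff _).1 hu
  obtain ⟨y, rfl⟩ := (ta_iff _).1 hv
  refine (fst_le_N hY x y).trans ?_
  rcases cube_col ax (x := x) (y := y) (by rw [← h, pow_orderOf_eq_one]) (fun e => by
    rw [e, orderOf_one] at h
    norm_num at h) with k | k
  · exact N_three k
  · exact (N_four k).trans (by norm_num)

theorem fst_rest {Y : Set MG} (hY : ∀ y ∈ Y, TA y) {u v : MG} (hu : TA u) (hv : TA v) (h1 : u * v ≠ 1)
    (h2 : orderOf (u * v) ≠ 2) (h3 : orderOf (u * v) ≠ 3) : (fst Y (u * v)).ncard ≤ 2208 := by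
  obtain ⟨x, rfl⟩ := (ta_iff _).1 hu
  obtain ⟨y, rfl⟩ := (ta_iff _).1 hv
  have : Fact (Nat.Prime 3) := ⟨Nat.prime_three⟩
  refine (fst_le_N hY x y).trans ?_
  rcases nine (c x y) with k | k | k | k | k | k | k | k | k
  · exact absurd (ax.zero_one k) h1
  · exact absurd (order_two (ax.one_sq k) h1) h2
  · exact absurd (order_two (ax.two_sq k) h1) h2
  · exact absurd (orderOf_eq_prime (ax.three _ _ k) h1) h3
  · exact absurd (orderOf_eq_prime (ax.four _ _ k) h1) h3
  · exact N_five k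
  · exact (N_six k).trans (by norm_num)
  · exact (N_seven k).trans (by norm_num)
  · exact (N_eight k).trans (by norm_num)

theorem common_le {Y : Set MG} (hY : ∀ y ∈ Y, TA y) {u v : MG} (hu : TA u) (hv : TA v) (h : u ≠ v) :
    {w | w ∈ Y ∧ TA (w * u) ∧ TA (w * v)}.ncard ≤ 3968056 := by
  obtain ⟨x, rfl⟩ := (ta_iff _).1 hu
  obtain ⟨y, rfl⟩ := (ta_iff _).1 hv
  have h0 : c x y ≠ 0 := fun e => h (by rw [(c_diag x y).1 e])
  have h1 : H816.M23.Sq.q (c x y) ≤ 3968056 := by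
    generalize c x y = i at h0
    revert i; decide
  refine le_trans ?_ h1
  rw [← H816.M23.Sq.q_eq, show Nat.card {v : XT // c x v = 1 ∧ c v y = 1} =
    {v : XT | c x v = 1 ∧ c v y = 1}.ncard from Nat.card_coe_set_eq _]
  refine le_trans (Set.ncard_le_ncard (t := tX '' _) ?_ (Set.toFinite _)) (Set.ncard_image_le (Set.toFinite _))
  rintro w ⟨hw, k1, k2⟩
  obtain ⟨s, rfl⟩ := (ta_iff _).1 (hY w hw)
  obtain ⟨w1, e1⟩ := (ta_iff _).1 k1
  obtain ⟨w2, e2⟩ := (ta_iff _).1 k2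
  exact ⟨s, ⟨by rw [isCol.symm]; exact ax.col_one e1, ax.col_one e2⟩, rfl⟩

theorem arith_graph {a e : ℕ} (h : e ^ 2 ≤ a * (e + 3968056 * a ^ 2)) (ha : 16 * 10 ^ 8 < a) :
    100 * (a + e) ≤ 6 * a ^ 2 := by
  by_contra hc
  have h1 : 59 * a ^ 2 ≤ 1000 * e := by nlinarith only [ha, hc]
  have h2 : a * (59 * a * e) ≤ a * (1000 * e + 1000 * 3968056 * a ^ 2) := by nlinarith only [h, h1]
  have h3 : 59 * a * e ≤ 1000 * e + 1000 * 3968056 * a ^ 2 := Nat.le_of_mul_le_mul_left h2 (by omega)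
  have h4 : a * (58 * e) ≤ a * (1000 * 3968056 * a) := by nlinarith only [ha, h3]
  have h5 : 58 * e ≤ 1000 * 3968056 * a := Nat.le_of_mul_le_mul_left h4 (by omega)
  have h6 : a * (58 * 59 * a) ≤ a * (10 ^ 6 * 3968056) := by linarith only [hc, h5]
  have h7 := Nat.le_of_mul_le_mul_left h6 (by omega)
  omega

/-- **The pairs with a product of order 3.** -/
theorem np_three {Y Z : Set MG} (hY : ∀ y ∈ Y, TA y) (hZ : ∀ u ∈ Y, ∀ v ∈ Y, orderOf (u * v) = 3 → u * v ∈ Z) :
    np Y (fun g => orderOf g = 3) ≤ 920808 * Z.ncard :=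
  np_le_mul Z _ hZ fun u hu v hv h => fst_three hY (hY u hu) (hY v hv) h

/-- **The number of `2A`-involutions.** -/
theorem a_sq {Y Z : Set MG} (hY : ∀ y ∈ Y, TA y) (hZ : ∀ u ∈ Y, ∀ v ∈ Y, u * v ∈ Z) {b P n : ℕ}
    (hb : {g | g ∈ Z ∧ orderOf g = 2 ∧ ¬ TA g}.ncard ≤ b) (hP : np Y (fun g => orderOf g = 3) ≤ P)
    (hn : Z.ncard ≤ n) :
    Y.ncard ≤ 16 * 10 ^ 8 ∨ 94 * Y.ncard ^ 2 ≤ 100 * (196560 * b + P + 2208 * n) := by
  by_cases ha : Y.ncard ≤ 16 * 10 ^ 8
  · exact Or.inl ha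
  right
  have h0 : np Y (fun _ => True) ≤ np Y (fun g => g = 1 ∨ (TA g ∨ ((orderOf g = 2 ∧ ¬ TA g) ∨ (orderOf g = 3 ∨
      (g ≠ 1 ∧ orderOf g ≠ 2 ∧ orderOf g ≠ 3))))) := np_mono fun u _ v _ _ => by (clear * -; tauto)
  have k1 := np_or Y (fun g => g = 1) (fun g => (TA g ∨ ((orderOf g = 2 ∧ ¬ TA g) ∨ (orderOf g = 3 ∨
      (g ≠ 1 ∧ orderOf g ≠ 2 ∧ orderOf g ≠ 3)))))
  have k2 := np_or Y (fun g => TA g) (fun g => ((orderOf g = 2 ∧ ¬ TA g) ∨ (orderOf g = 3 ∨
      (g ≠ 1 ∧ orderOf g ≠ 2 ∧ orderOf g ≠ 3))))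
  have k3 := np_or Y (fun g => orderOf g = 2 ∧ ¬ TA g) (fun g => (orderOf g = 3 ∨
      (g ≠ 1 ∧ orderOf g ≠ 2 ∧ orderOf g ≠ 3)))
  have k4 := np_or Y (fun g => orderOf g = 3) (fun g => (g ≠ 1 ∧ orderOf g ≠ 2 ∧ orderOf g ≠ 3))
  have h1 := np_one (Y := Y)
  have h2 := arith_graph (np_graph (Y := Y) (Q := fun g => TA g) 3968056
    fun u hu v hv h => common_le hY (hY u hu) (hY v hv) h) (not_le.1 ha)
  have h3 := np_le_mul (Y := Y) (Q := fun g => orderOf g = 2 ∧ ¬ TA g) {g | g ∈ Z ∧ orderOf g = 2 ∧ ¬ TA g} 196560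
    (fun u hu v hv h => ⟨hZ u hu v hv, h⟩) fun u hu v hv h => fst_two hY (hY u hu) (hY v hv) h.1 h.2
  have h4 := np_le_mul (Y := Y) (Q := fun g => g ≠ 1 ∧ orderOf g ≠ 2 ∧ orderOf g ≠ 3) Z 2208
    (fun u hu v hv _ => hZ u hu v hv) fun u hu v hv h => fst_rest hY (hY u hu) (hY v hv) h.1 h.2.1 h.2.2
  rw [np_true] at h0
  omega

end Cfsg.Agent.SP.Mon.NL
end
end

-- part: SP/Mon/NL/Pass
section
set_option linter.all false
open scoped Cfsg.Agent.FastGrp

/-! # S5755, the Monster: a numerical test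

`pass n k` : no maximal pair `(A, B)` of the Monster has `|A| ∣ n` and `|A : B| ∣ k` (`false_of_pass`). -/

set_option autoImplicit false
set_option maxRecDepth 100000
set_option linter.style.haveILetI false

namespace Cfsg.Agent.SP.Mon.NL

open Cfsg.Agent.BpSpor.MBigModel (MG zz cls card_M card_cent_z card_cent_t)
open Cfsg.Agent.LThreeB.Row (TA)
open Cfsg.Agent.H995.CopEngine (AllKnown)
open Subgroup (centralizer zpowers mem_centralizer_singleton_iff)

/-- `|C(2A)|` -/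
abbrev cA : ℕ := 2 * 4154781481226426191177580544000000

/-- `|C(2B)|` -/
abbrev cB : ℕ := 2 ^ 25 * 4157776806543360000

theorem card_cent_b {v : MG} (hv : orderOf v = 2) (hn : ¬ TA v) : Nat.card (centralizer ({v} : Set MG)) = cB := by
  obtain ⟨g, hg⟩ := (cls hv).resolve_right hn
  rw [BpSpor.card_cent_of_conj hg, card_cent_z]

/-- **The prime 2**: `a`, `b` bound the numbers of `2A`- and `2B`-involutions of `A`. -/
theorem two_le {A B : Subgroup MG} (h : IsPair A B) (hd : 2 ∣ B.relIndex A) {a b : ℕ}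
    (ha : {x | x ∈ A ∧ TA x}.ncard ≤ a) (hb : {x | x ∈ A ∧ orderOf x = 2 ∧ ¬ TA x}.ncard ≤ b) :
    NM ≤ a ^ 2 * cA + b ^ 2 * cB := by
  have := BpSpor.MBigModel.finite
  have h1 := h.count_two Nat.prime_two hd TA (fun x t _ hx => by simpa using ta_conj hx t⁻¹) a cA b cB
    (le_trans (Set.ncard_le_ncard (fun x hx => And.intro hx.1 hx.2.2) (Set.toFinite _)) ha) hb
    (fun x _ _ hx => (card_cent_t hx).le) (fun x _ ho hx => (card_cent_b ho hx).le)
  rwa [card_M, show 2 - 1 = 1 from rfl, one_mul] at h1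

/-- **The prime 3**: `n` bounds the number of elements of order 3 of `A`. -/
theorem three_le (hK : AllKnown.{0}) {A B : Subgroup MG} (h : IsPair A B) (hd : 3 ∣ B.relIndex A) {n : ℕ}
    (hn : {x | x ∈ A ∧ orderOf x = 3}.ncard ≤ n) : 2 * NM ≤ n ^ 2 * (3 * 1255205709190661721292800) := by
  have := BpSpor.MBigModel.finite
  have h1 := h.count_one Nat.prime_three hd n _ hn fun x _ hx => cent_three_le hK hx
  rwa [card_M] at h1

/-- **The primes `≥ 5`**. -/
theorem big_le (hK : AllKnown.{0}) {A B : Subgroup MG} (h : IsPair A B) {r : ℕ} (hr : r.Prime) (h5 : 5 ≤ r)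
    (hd : r ∣ B.relIndex A) {n : ℕ} (hn : {x | x ∈ A ∧ orderOf x = r}.ncard ≤ n) :
    4 * NM ≤ n ^ 2 * (2 * 10 ^ 15) := by
  have := BpSpor.MBigModel.finite
  have h1 := h.count_one hr hd n _ hn fun x _ hx => cent_big_le hK hr h5 hx
  rw [card_M] at h1
  exact (Nat.mul_le_mul_right _ (by omega)).trans h1

/-! ### All involutions of a subgroup -/

/-- bound for `|C_X(x)|`, `x` of prime order `≥ p`, `|X| ∣ n` -/
def cc (p n : ℕ) : ℕ :=
  ((tabE ++ tabO).filter fun e => Nat.ble p e.1 && Nat.beq (n % e.1) 0).foldr (fun e m => max (Nat.gcd n e.2) m) 0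

theorem le_foldr {n : ℕ} {l : List (ℕ × ℕ)} {e : ℕ × ℕ} (he : e ∈ l) :
    Nat.gcd n e.2 ≤ l.foldr (fun e m => max (Nat.gcd n e.2) m) 0 := by
  induction l with
  | nil => simp at he
  | cons a l ih =>
    rcases List.mem_cons.1 he with rfl | h
    · exact le_max_left _ _
    · exact (ih h).trans (le_max_right _ _)

theorem le_cc {p n q c : ℕ} (h : (q, c) ∈ tabE ++ tabO) (hp : p ≤ q) (hq : q ∣ n) : Nat.gcd n c ≤ cc p n :=
  le_foldr (e := (q, c)) (List.mem_filter.2 ⟨h, by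
    simp only [Bool.and_eq_true, Nat.ble_eq, Nat.beq_eq]
    exact ⟨hp, Nat.mod_eq_zero_of_dvd hq⟩⟩)

theorem div_gcd_dvd {x P R : ℕ} (hx : 0 < x) (h : x ∣ P * R) : x / Nat.gcd x P ∣ R := by
  have hg : 0 < Nat.gcd x P := Nat.gcd_pos_of_pos_left _ hx
  have hc := Nat.coprime_div_gcd_div_gcd (m := x) (n := P) hg
  refine hc.dvd_of_dvd_mul_left (Nat.dvd_of_mul_dvd_mul_left hg ?_)
  rwa [← mul_assoc, Nat.mul_div_cancel' (Nat.gcd_dvd_left _ _), Nat.mul_div_cancel' (Nat.gcd_dvd_right _ _)]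

theorem exists_pow_order {G : Type*} [Group G] [Finite G] {g : G} {q : ℕ} (h : q ∣ orderOf g) :
    ∃ m, orderOf (g ^ m) = q := by
  obtain ⟨m, hm⟩ := h
  have hm0 : m ≠ 0 := by
    rintro rfl
    exact (orderOf_pos g).ne' (by simpa using hm)
  exact ⟨m, by rw [orderOf_pow' _ hm0, hm, Nat.gcd_eq_right (Dvd.intro_left q rfl),
    Nat.mul_div_cancel _ (Nat.pos_of_ne_zero hm0)]⟩

theorem card_dvd_NM (X : Subgroup MG) : Nat.card X ∣ NM := by
  rw [NM, ← card_M]; exact X.card_subgroup_dvd_card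

theorem np_part {X : Subgroup MG} {Y : Set MG} (hY : ∀ y ∈ Y, y ∈ X ∧ y * y = 1) {n P R : ℕ} (hn : Nat.card X ∣ n)
    (hn0 : 0 < n) (π : Set ℕ) (hπ : ∀ q ∈ π, q.Prime) (hPR : NM = P * R) (hP : ∀ q : ℕ, q.Prime → q ∣ P → q ∈ π)
    (hR : ∀ q ∈ π, ¬ q ∣ R) {Q : MG → Prop}
    (hQ : ∀ u ∈ Y, ∀ v ∈ Y, Q (u * v) → ∀ q : ℕ, q.Prime → q ∣ orderOf (u * v) → q ∈ π) :
    np Y Q ≤ Nat.gcd n P * n := by
  have := BpSpor.MBigModel.finite
  refine (np_pi hY π hπ (Nat.gcd (Nat.card X) P) (Nat.gcd_dvd_left _ _)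
    (fun q hq hd => hP q hq (hd.trans (Nat.gcd_dvd_right _ _)))
    (fun q hq hd => hR q hq (hd.trans (div_gcd_dvd Nat.card_pos (hPR ▸ card_dvd_NM X)))) hQ).trans ?_
  exact Nat.mul_le_mul (Nat.le_of_dvd (Nat.gcd_pos_of_pos_left _ hn0) (Nat.gcd_dvd_gcd_of_dvd_left _ hn))
    (Nat.le_of_dvd hn0 hn)

theorem invol_sq_aux (hK : AllKnown.{0}) {X : Subgroup MG} {Y : Set MG} (hY : ∀ y ∈ Y, y ∈ X ∧ y * y = 1) {n P R p : ℕ}
    (hn : Nat.card X ∣ n) (hn0 : 0 < n) (hp : 3 ≤ p) (hPR : NM = P * R) (hP : ∀ q : ℕ, q.Prime → q ∣ P → q < p)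
    (hR : ∀ q : ℕ, q < p → 2 ≤ q → Nat.Coprime q R) : Y.ncard ^ 2 ≤ (Nat.gcd n P + cc p n) * n := by
  have := BpSpor.MBigModel.finite
  rw [← np_true, add_mul]
  refine (np_split Y _ fun g => ∀ q : ℕ, q.Prime → q ∣ orderOf g → q < p).trans (Nat.add_le_add ?_ ?_)
  · exact np_part hY hn hn0 {q | q.Prime ∧ q < p} (fun _ h => h.1) hPR (fun q hq h => ⟨hq, hP q hq h⟩)
      (fun q hq => (Nat.Prime.coprime_iff_not_dvd hq.1).1 (hR q hq.2 hq.1.two_le))
      fun u _ v _ h q hq hd => ⟨hq, h.2 q hq hd⟩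
  · refine (np_cent hY (cc p n) fun u hu v hv h => ?_).trans (Nat.mul_le_mul_left _ (Nat.le_of_dvd hn0 hn))
    have h2 := h.2
    push Not at h2
    obtain ⟨q, hq, hd, hpq⟩ := h2
    obtain ⟨m, hm⟩ := exists_pow_order hd
    obtain ⟨c, h1, h3⟩ := cent_all hK hq (by omega) hm
    have huv : u * v ∈ X := X.mul_mem (hY u hu).1 (hY v hv).1
    refine le_trans (Nat.le_of_dvd (Nat.gcd_pos_of_pos_left _ hn0) (Nat.dvd_gcd ?_ ?_))
      (le_cc h1 hpq (hd.trans ((Subgroup.orderOf_dvd_natCard _ huv).trans hn)))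
    · exact (Subgroup.card_dvd_of_le inf_le_left).trans hn
    · refine (Subgroup.card_dvd_of_le fun g hg => ?_).trans h3
      have h4 : Commute g (u * v) := mem_centralizer_singleton_iff.1 hg.2
      exact mem_centralizer_singleton_iff.2 (h4.pow_right m).eq

/-- a bound for the number of classes met by products of two involutions -/
def KB (n : ℕ) : ℕ :=
  min (Nat.gcd n (2 ^ 46 * 3 ^ 20) + cc 5 n) (min (Nat.gcd n (2 ^ 46 * 3 ^ 20 * 5 ^ 9) + cc 7 n)
    (Nat.gcd n (2 ^ 46 * 3 ^ 20 * 5 ^ 9 * 7 ^ 6) + cc 11 n))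

theorem lt_of_dvd_pow {q r k p : ℕ} (hq : q.Prime) (hr : 0 < r) (hp : r < p) (h : q ∣ r ^ k) : q < p :=
  (Nat.le_of_dvd hr (hq.dvd_of_dvd_pow h)).trans_lt hp

/-- **The involutions of a subgroup.** -/
theorem invol_sq (hK : AllKnown.{0}) {X : Subgroup MG} {Y : Set MG} (hY : ∀ y ∈ Y, y ∈ X ∧ y * y = 1) {n : ℕ}
    (hn : Nat.card X ∣ n) (hn0 : 0 < n) : Y.ncard ^ 2 ≤ KB n * n := by
  unfold KB
  rw [min_mul, min_mul]
  refine le_min ?_ (le_min ?_ ?_)
  · refine invol_sq_aux hK hY (R := NM / (2 ^ 46 * 3 ^ 20)) hn hn0 (by norm_num) (by norm_num) (fun q hq h => ?_)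
      (by decide +kernel)
    rcases (hq.dvd_mul).1 h with h | h <;> exact lt_of_dvd_pow hq (by norm_num) (by norm_num) h
  · refine invol_sq_aux hK hY (R := NM / (2 ^ 46 * 3 ^ 20 * 5 ^ 9)) hn hn0 (by norm_num) (by norm_num) (fun q hq h => ?_)
      (by decide +kernel)
    rcases (hq.dvd_mul).1 h with h | h
    · rcases (hq.dvd_mul).1 h with h | h <;> exact lt_of_dvd_pow hq (by norm_num) (by norm_num) h
    · exact lt_of_dvd_pow hq (by norm_num) (by norm_num) h
  · refine invol_sq_aux hK hY (R := NM / (2 ^ 46 * 3 ^ 20 * 5 ^ 9 * 7 ^ 6)) hn hn0 (by norm_num) (by norm_num)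
      (fun q hq h => ?_) (by decide +kernel)
    rcases (hq.dvd_mul).1 h with h | h
    · rcases (hq.dvd_mul).1 h with h | h
      · rcases (hq.dvd_mul).1 h with h | h <;> exact lt_of_dvd_pow hq (by norm_num) (by norm_num) h
      · exact lt_of_dvd_pow hq (by norm_num) (by norm_num) h
    · exact lt_of_dvd_pow hq (by norm_num) (by norm_num) h

/-- pairs of involutions with a product of order 3 -/
theorem np_three_part {X : Subgroup MG} {Y : Set MG} (hY : ∀ y ∈ Y, y ∈ X ∧ y * y = 1) {n : ℕ}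
    (hn : Nat.card X ∣ n) (hn0 : 0 < n) : np Y (fun g => orderOf g = 3) ≤ Nat.gcd n (3 ^ 20) * n := by
  refine np_part hY (R := NM / 3 ^ 20) hn hn0 {3} (by simp [Nat.prime_three]) (by norm_num)
    (fun q hq h => (Nat.prime_dvd_prime_iff_eq hq Nat.prime_three).1 (hq.dvd_of_dvd_pow h))
    (by rintro q rfl; norm_num)
    fun u _ v _ h q hq hd => ?_
  rw [h] at hd
  exact (Nat.prime_dvd_prime_iff_eq hq Nat.prime_three).1 hd

/-! ### The test -/

/-- one step of Newton's method -/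
def nw (n s : ℕ) : ℕ := (s + n / s) / 2 + 1

/-- an upper bound for the square root -/
def sqU (n : ℕ) : ℕ := nw n (nw n (nw n (nw n (nw n (2 ^ (Nat.log2 n / 2 + 1))))))

/-- the test for index 2, given the bounds `b2`, `s` -/
def pass2' (n b2 s : ℕ) : Bool :=
  Nat.ble b2 (s * s) && Nat.blt (max (94 * (16 * 10 ^ 8) ^ 2)
    (100 * (196560 * s + min (Nat.gcd n (3 ^ 20) * n) (920808 * (n / 2)) + 2208 * n)) * cA + 94 * b2 * cB) (94 * NM)

/-- the test for index 2 -/
def pass2 (n : ℕ) : Bool := pass2' n (min (n * n) (KB n * n)) (sqU (min (n * n) (KB n * n)))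

theorem mem_of_two {T : Type*} [Group T] {A B : Subgroup T} (h2 : B.relIndex A = 2) {x : T} (hx : x ∈ A)
    (h3 : orderOf x = 3) : x ∈ B := by
  by_contra hB
  have h1 := NegS.mul_mem_of_two h2 hx hx hB hB
  have h4 : x = (x * x) * (x * x) := by
    have := pow_orderOf_eq_one x
    rw [h3] at this
    calc x = x ^ 3 * x := by rw [this, one_mul]
      _ = _ := by simp only [pow_succ, pow_zero, one_mul, mul_assoc]
  exact hB (h4 ▸ B.mul_mem h1 h1)

theorem false_of_pass2 (hK : AllKnown.{0}) {A B : Subgroup MG} (h : IsPair A B) (h2 : B.relIndex A = 2) {n : ℕ}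
    (hn : Nat.card A ∣ n) (hn0 : 0 < n) (hp : pass2 n = true) : False := by
  have := BpSpor.MBigModel.finite
  have hle := Nat.le_of_dvd hn0 hn
  have h1 := two_le h (by rw [h2]) le_rfl le_rfl
  set a := {x | x ∈ A ∧ TA x}.ncard with ha
  set b := {x | x ∈ A ∧ orderOf x = 2 ∧ ¬ TA x}.ncard with hb
  have hb1 : b ≤ n := (ncard_le_card_subgroup fun _ hx => hx.1).trans hle
  have hb2 : b ^ 2 ≤ min (n * n) (KB n * n) := le_min (by rw [pow_two]; exact Nat.mul_le_mul hb1 hb1)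
    (invol_sq hK (X := A) (fun y hy => ⟨hy.1, by rw [← pow_two, ← hy.2.1, pow_orderOf_eq_one]⟩) hn hn0)
  unfold pass2 pass2' at hp
  generalize min (n * n) (KB n * n) = b2 at hp hb2
  generalize sqU b2 = s at hp
  simp only [Bool.and_eq_true, Nat.ble_eq, Nat.blt_eq] at hp
  obtain ⟨hs, hp⟩ := hp
  have hbs : b ≤ s := by
    rw [← pow_two] at hs
    exact (Nat.pow_le_pow_iff_left (by norm_num)).1 (hb2.trans hs)
  have hY : ∀ y ∈ {x | x ∈ A ∧ TA x}, y ∈ A ∧ y * y = 1 := fun y hy => ⟨hy.1, ta_sq hy.2⟩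
  have hP : np {x | x ∈ A ∧ TA x} (fun g => orderOf g = 3) ≤ min (Nat.gcd n (3 ^ 20) * n) (920808 * (n / 2)) := by
    refine le_min (np_three_part hY hn hn0) ((np_three (Z := B) (fun y hy => hy.2) fun u hu v hv h3 =>
      mem_of_two h2 (A.mul_mem hu.1 hv.1) h3).trans (Nat.mul_le_mul_left _ ?_))
    have h3 := NegS.card_mul_relIndex h.le
    rw [h2] at h3
    rw [← Nat.card_coe_set_eq, SetLike.coe_sort_coe]
    omega
  have h4 := a_sq (Y := {x | x ∈ A ∧ TA x}) (Z := A) (fun y hy => hy.2) (fun u hu v hv => A.mul_mem hu.1 hv.1)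
    (b := s) (n := n) hbs hP (by rw [← Nat.card_coe_set_eq, SetLike.coe_sort_coe]; exact hle)
  have h5 : 94 * a ^ 2 ≤ max (94 * (16 * 10 ^ 8) ^ 2)
      (100 * (196560 * s + min (Nat.gcd n (3 ^ 20) * n) (920808 * (n / 2)) + 2208 * n)) := by
    rcases h4 with h4 | h4
    · exact le_max_of_le_left (Nat.mul_le_mul_left _ (Nat.pow_le_pow_left h4 2))
    · exact le_max_of_le_right h4
  generalize max (94 * (16 * 10 ^ 8) ^ 2)
      (100 * (196560 * s + min (Nat.gcd n (3 ^ 20) * n) (920808 * (n / 2)) + 2208 * n)) = U at h5 hp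
  have h6 : 94 * NM ≤ U * cA + 94 * b2 * cB :=
    calc 94 * NM ≤ 94 * (a ^ 2 * cA + b ^ 2 * cB) := Nat.mul_le_mul_left _ h1
      _ = 94 * a ^ 2 * cA + 94 * b ^ 2 * cB := by ring
      _ ≤ _ := Nat.add_le_add (Nat.mul_le_mul_right _ h5) (Nat.mul_le_mul_right _ (Nat.mul_le_mul_left _ hb2))
  exact absurd hp (not_lt.2 h6)

/-- the test for the odd primes -/
def passOdd (n k : ℕ) : Bool :=
  (Nat.blt 0 (k % 3) || Nat.blt (n ^ 2 * (3 * 1255205709190661721292800)) (2 * NM)) &&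
  (Nat.beq (2 ^ 46 * 3 ^ 20 % k) 0 || Nat.blt (n ^ 2 * (2 * 10 ^ 15)) (4 * NM))

theorem false_of_passOdd (hK : AllKnown.{0}) {A B : Subgroup MG} (h : IsPair A B) {r : ℕ} (hr : r.Prime) (h2 : r ≠ 2)
    (hd : r ∣ B.relIndex A) {n k : ℕ} (hle : Nat.card A ≤ n) (hk : B.relIndex A ∣ k) (hp : passOdd n k = true) :
    False := by
  have := BpSpor.MBigModel.finite
  unfold passOdd at hp
  simp only [Bool.and_eq_true, Bool.or_eq_true, Nat.beq_eq, Nat.blt_eq] at hp
  by_cases h3 : r = 3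
  · subst h3
    have h4 := three_le hK h hd ((ncard_le_card_subgroup fun _ hx => hx.1).trans hle)
    rcases hp.1 with h5 | h5
    · exact h5.ne' (Nat.mod_eq_zero_of_dvd (hd.trans hk))
    · exact absurd h5 (not_lt.2 h4)
  · have h5 : 5 ≤ r := by
      by_contra hc
      have := hr.two_le
      have h4 : r = 4 := by omega
      subst h4
      norm_num at hr
    have h4 := big_le hK h hr h5 hd ((ncard_le_card_subgroup fun _ hx => hx.1).trans hle)
    rcases hp.2 with h6 | h6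
    · have h7 := (hd.trans hk).trans (Nat.dvd_of_mod_eq_zero h6)
      have : r < 5 := by
        rcases (hr.dvd_mul).1 h7 with h | h <;> exact lt_of_dvd_pow hr (by norm_num) (by norm_num) h
      omega
    · exact absurd h6 (not_lt.2 h4)

/-- **The test**: `|A| ∣ n`, `|A : B| ∣ k` (`k = 0`: no information on the index). -/
def pass (n k : ℕ) : Bool := (Nat.blt 0 (k % 2) || pass2 n) && passOdd n k

theorem false_of_pass (hK : AllKnown.{0}) {A B : Subgroup MG} (h : IsMaxPair A B) {n k : ℕ}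
    (hn : Nat.card A ∣ n) (hn0 : 0 < n) (hk : B.relIndex A ∣ k) (hp : pass n k = true) : False := by
  have := BpSpor.MBigModel.finite
  unfold pass at hp
  simp only [Bool.and_eq_true, Bool.or_eq_true, Nat.blt_eq] at hp
  rcases NegS.two_or_odd h with h2 | ⟨r, hr, h2, hd⟩
  · rcases hp.1 with h3 | h3
    · exact h3.ne' (Nat.mod_eq_zero_of_dvd (h2 ▸ hk))
    · exact false_of_pass2 hK h.pair h2 hn hn0 h3
  · exact false_of_passOdd hK h.pair hr h2 hd (Nat.le_of_dvd hn0 hn) hk hp.2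

end Cfsg.Agent.SP.Mon.NL

private theorem dce_64d5812b9ba6 : _root_.True := by
  try have : _root_.True := by simp only [_root_.Cfsg.Agent.SP.Mon.NL.NM.eq_1]
  exact _root_.True.intro
end

-- part: SP/Mon/C2A/Box
section
prune_inst 0x10002104040000000000000060001c42a2000002004b00010040000004808c4100000e20b020021011208824003a804811000019001000002000820041180080042022c28048a00001000000c800180c00000000000000000000000000000000000000000
set_option linter.all false
open scoped Cfsg.Agent.FastGrp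

/-! # S5755, the Monster: box `C2A`

`C(a) ∩ C(a') ≅ Th` for `a a'` of class `3C`; by descent a pair inside `C(a) = 2.B` contains all these subgroups. -/

set_option autoImplicit false
set_option maxRecDepth 100000
set_option linter.style.haveILetI false

namespace Cfsg.Agent.SP.Mon.C2A

open Subgroup Cfsg
open Cfsg.Agent.MonsterX Cfsg.Agent.MonsterP Cfsg.Agent.LThreeMB
open Cfsg.Agent.H816.MSch Cfsg.Agent.H816.IMEig
open Cfsg.Agent.H816.M23.Tx Cfsg.Agent.H816.M23.Inst Cfsg.Agent.H816.M23.Main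
open Cfsg.Agent.BpSpor.MBigModel (MG zz pi chart cls)
open Cfsg.Agent.LThreeB.Row (TA)

theorem isoTh_in {x : centralizer ({zz} : Set MG)} (hx : T3C (x : MG)) : Spor.IsoTh (XX (x : MG)) := by
  have := BpSpor.MBigModel.finite
  have := BpSpor.MBigModel.simple
  have I := CoOneFin.coOne
  have htr := KPair.trNe KDone.lft LThreeB.Row.cent (LThreeMBTr.traceNe KDone.lft LThreeMBTr.TensK.tens)
  have hxo : orderOf x = 3 := by rw [← Subgroup.orderOf_coe, hx.1]
  rcases I.ranks (_root_.Cfsg.Agent.BpSpor.MBigModel.pi x) (orderOf_pi chart hxo) with h1 | h1 | h1 | h1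
  · have h2 := H199.AbMon.three_zero' hxo h1
    rw [hx.2] at h2
    exact absurd h2 (by norm_num)
  · obtain ⟨x₀, u, g, hx₀, hfr₀, huz, hux, hne, hg⟩ :=
      KPair.hasPair KDone.lft LThreeB.Row.cent PreUniq.MonRow.second COct.octPair
    obtain ⟨k, hk⟩ := conj_six chart htr I.ranks I.six
      (fun x hx h2 => ⟨(good_of_inputs chart I hx h2 : Good.{0} _).simple, (good_of_inputs chart I hx h2 : Good.{0} _).nc⟩)
      hx₀ hfr₀ huz hux hne hg hxo h1
    have h2 := H199.AbMon.three_zero' hx₀ hfr₀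
    rw [BpSpor.card_cent_of_conj hk, hx.2] at h2
    exact absurd h2 (by norm_num)
  · exact LThreeB.isoTh_of_inputs chart I hxo h1
  · obtain ⟨e⟩ := LThreeB.isoFi_of_inputs chart I hxo h1
    have h2 := hx.2
    rw [H199.NSmMon.card_XX, hx.1, Nat.card_congr e.toEquiv, Cfsg.Agent.S1698.result.2] at h2
    exact absurd h2 (by norm_num)

/-- **The class `3C`**: `C(x) / ⟨x⟩` embeds in `Th`. -/
theorem exists_hom_th {x : MG} (hx : T3C x) : ∃ f : centralizer ({x} : Set MG) →* Spor.Th,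
    ∀ g, f g = 1 → (g : MG) ∈ zpowers x := by
  obtain ⟨g, hg⟩ := H199.NSmMon.ev_of_even hx.1 (by rw [hx.2]; decide)
  have h1 : (g⁻¹ * x * g) * zz = zz * (g⁻¹ * x * g) := by
    calc (g⁻¹ * x * g) * zz = g⁻¹ * (x * (g * zz * g⁻¹)) * g := by group
      _ = g⁻¹ * ((g * zz * g⁻¹) * x) * g := by rw [hg]
      _ = zz * (g⁻¹ * x * g) := by group
  obtain ⟨e⟩ := isoTh_in (x := ⟨_, mem_centralizer_singleton_iff.2 h1⟩)
    ⟨(orderOf_conj' g x).trans hx.1, (card_centralizer_conj g x).trans hx.2⟩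
  let κ : centralizer ({x} : Set MG) →* centralizer ({g⁻¹ * x * g} : Set MG) :=
    ((MulAut.conj g⁻¹).toMonoidHom.comp (Subgroup.subtype _)).codRestrict _ fun c => by
      rw [mem_centralizer_singleton_iff]
      show g⁻¹ * c * g⁻¹⁻¹ * (g⁻¹ * x * g) = g⁻¹ * x * g * (g⁻¹ * c * g⁻¹⁻¹)
      calc g⁻¹ * c * g⁻¹⁻¹ * (g⁻¹ * x * g) = g⁻¹ * (c * x) * g := by group
        _ = _ := by rw [mem_centralizer_singleton_iff.1 c.2]; group
  refine ⟨e.toMonoidHom.comp ((QuotientGroup.mk' (Zx (g⁻¹ * x * g))).comp κ), fun c hc => ?_⟩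
  have h2 : _root_.Cfsg.Agent.LThreeMB.mk (g⁻¹ * x * g) (mem_centralizer_singleton_iff.1 (κ c).2) = 1 := ((map_eq_one_iff e e.injective).1 hc :)
  obtain ⟨i, hi⟩ := (LThreeMB.mk_eq_one _).1 h2
  refine ⟨i, (MulAut.conj g⁻¹).injective ?_⟩
  rw [map_zpow, MulAut.conj_apply, inv_inv]
  exact hi

/-- the centraliser of two `2A`-involutions -/
noncomputable abbrev KK (x y : XT) : Subgroup MG := centralizer ({tX x} : Set MG) ⊓ centralizer ({tX y} : Set MG)

theorem card_KK {x y : XT} (h : c x y = 4) : Nat.card (KK x y) = 90745943887872000 := by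
  have h1 := card_st x y
  have h2 : MulAction.stabilizer MG ((x, y) : XT × XT) = KK x y := by
    ext g
    rw [MulAction.mem_stabilizer_iff, Prod.smul_mk, Prod.mk.injEq, fix_iff, fix_iff, mem_inf,
      mem_centralizer_singleton_iff, mem_centralizer_singleton_iff]
  rw [h, h2] at h1
  have h3 : Nat.card (KK x y) * (97239461142009186000 * 91569524834304000) =
    808017424794512875886459904961710757005754368000000000 := h1
  omega

theorem braid {G : Type*} [Group G] {a b : G} (ha : a * a = 1) (hb : b * b = 1) (h : (a * b) ^ 3 = 1) :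
    a * b * a * (a * b)⁻¹ = b := by
  rw [mul_inv_rev, inv_eq_of_mul_eq_one_left ha, inv_eq_of_mul_eq_one_left hb]
  calc a * b * a * (b * a) = (a * b) ^ 3 * b⁻¹ := by rw [pow_succ, pow_two]; group
    _ = b := by rw [h, one_mul, inv_eq_of_mul_eq_one_left hb]

theorem comm_KK {x y : XT} {g : MG} (hg : g ∈ KK x y) : Commute (tX x * tX y) g :=
  Commute.mul_left (mem_centralizer_singleton_iff.1 hg.1).symm (mem_centralizer_singleton_iff.1 hg.2).symm

theorem mem_KK {x y : XT} (h : c x y = 4) {g : MG} (h1 : g ∈ centralizer ({tX x} : Set MG))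
    (h2 : (tX x * tX y)⁻¹ * g * (tX x * tX y) ∈ centralizer ({tX x} : Set MG)) : g ∈ KK x y := by
  refine ⟨h1, mem_centralizer_singleton_iff.2 ?_⟩
  have h3 := mem_centralizer_singleton_iff.1 h2
  have h4 := braid (tX_sq x) (tX_sq y) (ax.four x y h)
  generalize tX x * tX y = s at h3 h4
  rw [← h4]
  calc g * (s * tX x * s⁻¹) = s * (s⁻¹ * g * s * tX x) * s⁻¹ := by group
    _ = _ := by rw [h3]; group

/-- `C(a) ∩ C(a') ≅ Th` -/
theorem iso_KK {x y : XT} (h : c x y = 4) : Nonempty (KK x y ≃* Spor.Th) := by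
  have := BpSpor.MBigModel.finite
  have : Fact (Nat.Prime 3) := ⟨Nat.prime_three⟩
  have ho : orderOf (tX x * tX y) = 3 := ord_eq (by rw [h]; decide) Nat.prime_three (ax.four x y h)
  obtain ⟨f, hf⟩ := exists_hom_th (x := tX x * tX y) ⟨ho, cent_four h⟩
  have hle : KK x y ≤ centralizer ({tX x * tX y} : Set MG) := fun g hg =>
    mem_centralizer_singleton_iff.2 (comm_KK hg).symm.eq
  refine ⟨MulEquiv.ofBijective (f.comp (inclusion hle)) ((Nat.bijective_iff_injective_and_card _).2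
    ⟨(injective_iff_map_eq_one _).2 fun g hg => ?_, by rw [card_KK h, Cfsg.Agent.S1700.result.2]⟩)⟩
  by_contra h1
  have h2 : zpowers (g : MG) = zpowers (tX x * tX y) := by
    refine eq_of_le_of_card_ge (zpowers_le.2 (hf _ hg)) ?_
    rw [Nat.card_zpowers, Nat.card_zpowers, ho]
    have h3 : orderOf (g : MG) ∣ 3 := ho ▸ orderOf_dvd_of_mem_zpowers (hf _ hg)
    rcases (Nat.dvd_prime Nat.prime_three).1 h3 with h4 | h4
    · exact absurd (Subtype.ext (orderOf_eq_one_iff.1 h4)) h1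
    · exact h4.ge
  have h3 : tX x * tX y ∈ KK x y := zpowers_le.2 g.2 (h2 ▸ mem_zpowers _)
  have h4 := braid (tX_sq x) (tX_sq y) (ax.four x y h)
  rw [mem_centralizer_singleton_iff.1 h3.1, mul_inv_cancel_right] at h4
  rw [h4, tX_sq, orderOf_one] at ho
  norm_num at ho

theorem exists_four (x : XT) : ∃ y, c x y = 4 := by
  have h1 : Nat.card {y // c x y = 4} = 91569524834304000 := kk x 4
  obtain ⟨y⟩ := (Nat.card_pos_iff.1 (by rw [h1]; norm_num : 0 < Nat.card {y // c x y = 4})).1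
  exact ⟨y.1, y.2⟩

theorem exists_x : ∃ x : MG, TA x ∧ IsNonsplitDoubleCover (centralizer ({x} : Set MG)) Spor.BabyMonster := by
  have hfin := BpSpor.MBigModel.finite
  obtain ⟨f⟩ := MonsterP.Equiv.equiv
  obtain ⟨x, hx, hc⟩ := MonsterU.Transfer.exists_cover f.symm S5534.result
  refine ⟨x, (cls hx).resolve_left ?_, hc⟩
  rintro ⟨g, hg⟩
  have h1 := BpSpor.card_cent_of_conj hg
  have h2 := card_eq_card_quotient_mul_card_subgroup (center ↥(centralizer ({x} : Set MG)))
  obtain ⟨h3, ⟨e⟩, -⟩ := hc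
  rw [h3, Nat.card_congr e.toEquiv, S1704.result.2, h1, BpSpor.MBigModel.card_cent_z] at h2
  norm_num at h2

theorem noPair (hTh : ¬ Pair Spor.Th) {x : XT}
    (hc : IsNonsplitDoubleCover (centralizer ({tX x} : Set MG)) Spor.BabyMonster) :
    NoPairIn (centralizer ({tX x} : Set MG)) := by
  intro A B hA h
  have := BpSpor.MBigModel.finite
  have := S1704.result.1
  obtain ⟨h2, ⟨e⟩, hns⟩ := hc
  obtain ⟨y, hy⟩ := exists_four x
  have hK : ∀ y, c x y = 4 → KK x y ≤ A := fun y hy =>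
    (h.descent hA inf_le_left (tX x * tX y) (fun g => mem_KK hy) fun k => comm_KK).resolve_right fun hp =>
      let ⟨f⟩ := iso_KK hy
      hTh (hp.of_equiv f)
  set C := centralizer ({tX x} : Set MG) with hC
  let π : C →* Spor.BabyMonster := e.toMonoidHom.comp (QuotientGroup.mk' _)
  have hπ : Function.Surjective π := e.surjective.comp (QuotientGroup.mk'_surjective _)
  have hker : π.ker = center C := by
    ext g
    show e (QuotientGroup.mk' _ g) = 1 ↔ _
    rw [map_eq_one_iff e e.injective, ← MonoidHom.mem_ker, QuotientGroup.ker_mk']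
  have hbot : ∀ L : Subgroup MG, L ≤ C → (L.subgroupOf C).map π = ⊥ → Nat.card L ≤ 2 := fun L hL k => by
    rw [← Nat.card_congr (subgroupOfEquivOfLe hL).toEquiv, ← h2, ← hker]
    exact card_le_of_le ((Subgroup.map_eq_bot_iff _).1 k)
  have hN : normalClosure ((KK x y).subgroupOf C : Set C) ≤ A.subgroupOf C := by
    refine (closure_le _).2 fun g hg => ?_
    obtain ⟨k, hk, hkg⟩ := Group.mem_conjugatesOfSet_iff.1 hg
    obtain ⟨u, rfl⟩ := isConj_iff.1 hkg
    have k1 : (u : MG) • x = x := (fix_iff _ _).2 (mem_centralizer_singleton_iff.1 u.2)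
    refine hK ((u : MG) • y) (by rw [← hy, ← c_inv (u : MG) x y, k1]) ⟨(u * k * u⁻¹).2, mem_centralizer_singleton_iff.2 ?_⟩
    show (u : MG) * k * (u : MG)⁻¹ * tX ((u : MG) • y) = tX ((u : MG) • y) * ((u : MG) * k * (u : MG)⁻¹)
    rw [tX_smul]
    calc (u : MG) * k * (u : MG)⁻¹ * (u * tX y * (u : MG)⁻¹) = u * (k * tX y) * (u : MG)⁻¹ := by group
      _ = _ := by rw [show (k : MG) * tX y = tX y * k from mem_centralizer_singleton_iff.1 hk.2]; group
  have hAt : (A.subgroupOf C).map π = ⊤ := by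
    rcases ((normalClosure_normal (s := ((KK x y).subgroupOf C : Set C))).map π hπ).eq_bot_or_eq_top with k | k
    · have k1 := hbot (KK x y) inf_le_left (eq_bot_iff.2 (k ▸ map_mono le_normalClosure))
      rw [card_KK hy] at k1
      norm_num at k1
    · exact eq_top_iff.2 (k ▸ map_mono hN)
  have hBn : ((B.subgroupOf C).map π).Normal := ⟨by
    rintro _ ⟨b, hb, rfl⟩ g
    obtain ⟨a, ha, rfl⟩ := hAt.ge (mem_top g)
    exact ⟨a * b * a⁻¹, h.conj_mem ha hb, by rw [map_mul, map_mul, map_inv]⟩⟩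
  rcases hBn.eq_bot_or_eq_top with k | k
  · have k1 := hbot B (h.le.trans hA) k
    have k2 := h.card_le (D := KK x y) (tX x * tX y) fun g hg hg' => mem_KK hy (hA hg) (hA hg')
    have k3 : Nat.card ((A.subgroupOf C).map π) ≤ Nat.card (A.subgroupOf C) :=
      Nat.le_of_dvd Nat.card_pos (card_map_dvd _ _)
    rw [hAt, card_top, S1704.result.2, Nat.card_congr (subgroupOfEquivOfLe hA).toEquiv] at k3
    rw [card_KK hy] at k2
    omega
  · have k1 : B.subgroupOf C ⊔ center C = ⊤ := by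
      rw [← hker, ← comap_map_eq, k, comap_top]
    have : Fact (Nat.Prime (Nat.card (center C))) := ⟨by rw [h2]; exact Nat.prime_two⟩
    rcases eq_bot_or_eq_top_of_prime_card ((B.subgroupOf C).subgroupOf (center C)) with k2 | k2
    · refine hns (B.subgroupOf C) (isComplement'_of_disjoint_and_mul_eq_univ ?_ ?_)
      · exact (subgroupOf_eq_bot.1 k2).symm
      · rw [← normal_mul, sup_comm, k1, coe_top]
    · rw [sup_eq_left.2 (subgroupOf_eq_top.1 k2), subgroupOf_eq_top] at k1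
      exact h.2.1.not_ge (hA.trans k1)

/-- **Box `C2A`.** -/
theorem boxC2A (hTh : ¬ Pair Spor.Th) : BoxC2A := by
  intro a ha
  obtain ⟨t, ht, hc⟩ := exists_x
  obtain ⟨g, hg⟩ := isConj_iff.1 ((show IsConj _ t from ht).symm.trans (show IsConj _ a from ha))
  obtain ⟨x, rfl⟩ := (ta_iff _).1 ht
  refine (noPair hTh hc).of_conj g fun u hu => mem_centralizer_singleton_iff.2 ?_
  have h1 := mem_centralizer_singleton_iff.1 hu
  rw [← hg] at h1
  calc g⁻¹ * u * g * tX x = g⁻¹ * (u * (g * tX x * g⁻¹)) * g := by group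
    _ = _ := by rw [h1]; group

end Cfsg.Agent.SP.Mon.C2A
end
end
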